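import Groth.Agent.Ega2.KrullAkizuki
import Mathlib.RingTheory.DedekindDomain.IntegralClosure
import Mathlib.RingTheory.KrullDimension.Field
import Mathlib.RingTheory.DedekindDomain.Ideal.Lemmas
import Mathlib.RingTheory.Spectrum.Prime.RingHom
import Mathlib.RingTheory.Spectrum.Prime.Topology

/-!
# Krull-Akizuki: integral closures in finite extensions of one-dimensional Noetherian domains
-/

set_option autoImplicit false
universe u

namespace K62.KA

open Groth.Agent.Ega2.KrullAkizuki

theorem finite_fibre (A B : Type u) [CommRing A] [IsDomain A] [Ring.DimensionLEOne A]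
    [CommRing B] [IsDomain B] [Algebra A B] [Algebra.IsIntegral A B] [FaithfulSMul A B]
    [IsDedekindDomain B] (p : PrimeSpectrum A) :
    (PrimeSpectrum.comap (algebraMap A B) ⁻¹' {p}).Finite := by
  by_cases hp : p.asIdeal = ⊥
  · refine (Set.finite_singleton (⊥ : PrimeSpectrum B)).subset ?_
    intro q hq
    have h1 : q.asIdeal.comap (algebraMap A B) = ⊥ := by
      rw [← hp]
      exact congrArg PrimeSpectrum.asIdeal hq
    have h2 := Ideal.eq_bot_of_comap_eq_bot h1
    exact PrimeSpectrum.ext h2
  · have hm : p.asIdeal.IsMaximal := Ring.DimensionLEOne.maximalOfPrime hp p.2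
    have h1 : (p.asIdeal.primesOver B).Finite := IsDedekindDomain.primesOver_finite p.asIdeal B
    have h2 : (PrimeSpectrum.asIdeal '' (PrimeSpectrum.comap (algebraMap A B) ⁻¹' {p})).Finite := by
      refine h1.subset ?_
      rintro _ ⟨q, hq, rfl⟩
      exact ⟨q.2, ⟨(congrArg PrimeSpectrum.asIdeal hq).symm⟩⟩
    exact h2.of_finite_image (fun x _ y _ h => PrimeSpectrum.ext h)

theorem isDedekind (A K L B : Type u) [CommRing A] [IsDomain A]
    [IsNoetherianRing A] (hdim : ringKrullDim A = 1) [Field K] [Algebra A K] [IsFractionRing A K]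
    [Field L] [Algebra K L] [FiniteDimensional K L] [Algebra A L] [IsScalarTower A K L]
    [CommRing B] [IsDomain B] [Algebra A B] [Algebra B L] [IsScalarTower A B L]
    [IsIntegralClosure B A L] : IsDedekindDomain B := by
  have hKD : Ring.KrullDimLE 1 A := by
    rw [Ring.krullDimLE_iff, hdim]; rfl
  have hD1 : Ring.DimensionLEOne A := ⟨fun h hp => Ideal.IsPrime.isMaximal_of_ne_bot hp h⟩
  have : IsFractionRing B L := IsIntegralClosure.isFractionRing_of_finite_extension A K L B
  have hint : Algebra.IsIntegral A B := IsIntegralClosure.isIntegral_algebra A L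
  have hBL : Function.Injective (algebraMap B L) := IsIntegralClosure.algebraMap_injective B A L
  have hNoeth : IsNoetherianRing B := isNoetherianRing A K L hBL
  have h2 : Ring.DimensionLEOne B := Ring.DimensionLEOne.of_isIntegral A B
  have h3 : IsIntegrallyClosed B := (isIntegrallyClosed_iff L).mpr fun {x} hx =>
        ⟨IsIntegralClosure.mk' B x (isIntegral_trans (R := A) _ hx),
          IsIntegralClosure.algebraMap_mk' _ _ _⟩
  exact { hNoeth, h2, h3 with : IsDedekindDomain B }

theorem finite_quotient (A K L B : Type u) [CommRing A] [IsDomain A]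
    [IsNoetherianRing A] (hdim : ringKrullDim A = 1) [Field K] [Algebra A K] [IsFractionRing A K]
    [Field L] [Algebra K L] [FiniteDimensional K L] [Algebra A L] [IsScalarTower A K L]
    [CommRing B] [IsDomain B] [Algebra A B] [Algebra B L] [IsScalarTower A B L]
    [Algebra.IsIntegral A B] (hBL : Function.Injective (algebraMap B L))
    (Q : Ideal B) (hQ : Q.IsMaximal) :
    Module.Finite (A ⧸ Q.comap (algebraMap A B)) (B ⧸ Q) := by
  have hKD : Ring.KrullDimLE 1 A := by
    rw [Ring.krullDimLE_iff, hdim]; rfl
  have hnf : ¬ IsField A := by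
    intro hf
    have := ringKrullDim_eq_zero_of_isField hf
    rw [hdim] at this
    exact one_ne_zero this
  have hP : Q.comap (algebraMap A B) ≠ ⊥ := by
    intro h
    have h1 := Ideal.isMaximal_comap_of_isIntegral_of_isMaximal (R := A) Q
    rw [h] at h1
    exact hnf ((Ring.isField_iff_maximal_bot).2 h1)
  obtain ⟨a, ha, ha0⟩ := Submodule.exists_mem_ne_zero_of_ne_bot hP
  have h1 : IsFiniteLength A (B ⧸ Ideal.span {algebraMap A B a}) :=
    isFiniteLength_quotient (K := K) (L := L) hBL a ha0
  have h2 : IsNoetherian A (B ⧸ Ideal.span {algebraMap A B a}) :=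
    (isFiniteLength_iff_isNoetherian_isArtinian.1 h1).1
  have hle : Ideal.span {algebraMap A B a} ≤ Q := (Ideal.span_singleton_le_iff_mem _).2 ha
  have h4 : Module.Finite A (B ⧸ Ideal.span {algebraMap A B a}) :=
    Module.IsNoetherian.finite A _
  let φ : (B ⧸ Ideal.span {algebraMap A B a}) →ₐ[A] (B ⧸ Q) := Ideal.Quotient.factorₐ A hle
  have hφ : Function.Surjective φ := Ideal.Quotient.factor_surjective hle
  have h3 : Module.Finite A (B ⧸ Q) := Module.Finite.of_surjective φ.toLinearMap hφ
  exact Module.Finite.of_restrictScalars_finite A _ _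

theorem main (A K L B : Type u) [CommRing A] [IsDomain A]
    [IsNoetherianRing A] (hdim : ringKrullDim A = 1) [Field K] [Algebra A K] [IsFractionRing A K]
    [Field L] [Algebra K L] [FiniteDimensional K L] [Algebra A L] [IsScalarTower A K L]
    [CommRing B] [IsDomain B] [Algebra A B] [Algebra B L] [IsScalarTower A B L]
    [IsIntegralClosure B A L] :
    IsDedekindDomain B ∧ Function.Surjective (PrimeSpectrum.comap (algebraMap A B)) ∧
      (∀ p : PrimeSpectrum A, (PrimeSpectrum.comap (algebraMap A B) ⁻¹' {p}).Finite) ∧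
      ∀ Q : Ideal B, Q.IsMaximal → Module.Finite (A ⧸ Q.comap (algebraMap A B)) (B ⧸ Q) := by
  have hKD : Ring.KrullDimLE 1 A := by
    rw [Ring.krullDimLE_iff, hdim]; rfl
  have hD1 : Ring.DimensionLEOne A := ⟨fun h hp => Ideal.IsPrime.isMaximal_of_ne_bot hp h⟩
  have hint : Algebra.IsIntegral A B := IsIntegralClosure.isIntegral_algebra A L
  have hBL : Function.Injective (algebraMap B L) := IsIntegralClosure.algebraMap_injective B A L
  have hAL : Function.Injective (algebraMap A L) := by
    rw [IsScalarTower.algebraMap_eq A K L]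
    exact (algebraMap K L).injective.comp (IsFractionRing.injective A K)
  have hAB : Function.Injective (algebraMap A B) := by
    rw [IsScalarTower.algebraMap_eq A B L] at hAL
    exact Function.Injective.of_comp hAL
  have hDed : IsDedekindDomain B := isDedekind A K L B hdim
  have : FaithfulSMul A B := (faithfulSMul_iff_algebraMap_injective A B).2 hAB
  exact ⟨hDed, (algebraMap_isIntegral_iff.2 hint).comap_surjective hAB,
    fun p => finite_fibre A B p, fun Q hQ => finite_quotient A K L B hdim hBL Q hQ⟩

end K62.KA
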