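import Mathlib.Algebra.Module.FinitePresentation
import Mathlib.LinearAlgebra.Pi

/-!
# Coherent modules

`Coh R M`: `M` is finite and every finitely generated submodule is finitely presented.
* `coh_of_shortExact`: extensions of coherent modules are coherent.
* `coh_fin`: finite free modules over a coherent ring are coherent.
* `coh_of_surjective`: quotients of coherent modules by finitely generated submodules are coherent.
-/

set_option autoImplicit false
universe u v w x

namespace K62.CohMod

/-- Coherent modules. -/
def Coh (R : Type u) [CommRing R] (M : Type v) [AddCommGroup M] [Module R M] : Prop :=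
  Module.Finite R M ∧ ∀ N : Submodule R M, N.FG → Module.FinitePresentation R N

variable {R : Type u} [CommRing R]

theorem fp_of_ker_range {M : Type v} {P : Type w} [AddCommGroup M] [Module R M] [AddCommGroup P]
    [Module R P] (g : M →ₗ[R] P) (N : Submodule R M)
    (h1 : Module.FinitePresentation R (N.map g))
    (h2 : Module.FinitePresentation R (LinearMap.ker (g.submoduleMap N))) :
    Module.FinitePresentation R N :=
  Module.finitePresentation_of_ker (g.submoduleMap N) (g.submoduleMap_surjective N)

theorem fp_of_injective {M : Type v} {P : Type w} [AddCommGroup M] [Module R M] [AddCommGroup P]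
    [Module R P] (f : M →ₗ[R] P) (hf : Function.Injective f) (h : Coh R P)
    (hM : Module.Finite R M) : Module.FinitePresentation R M := by
  have h1 : (LinearMap.range f).FG := by
    rw [← Module.Finite.iff_fg]
    exact Module.Finite.range f
  have := h.2 _ h1
  exact Module.FinitePresentation.of_equiv (LinearEquiv.ofInjective f hf).symm

theorem coh_of_shortExact {M₁ : Type v} {M₂ : Type w} {M₃ : Type x}
    [AddCommGroup M₁] [Module R M₁] [AddCommGroup M₂] [Module R M₂] [AddCommGroup M₃] [Module R M₃]
    (f : M₁ →ₗ[R] M₂) (g : M₂ →ₗ[R] M₃) (hf : Function.Injective f) (hg : Function.Surjective g)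
    (hfg : LinearMap.range f = LinearMap.ker g) (h₁ : Coh R M₁) (h₃ : Coh R M₃) : Coh R M₂ := by
  have := h₁.1
  have := h₃.1
  refine ⟨?_, ?_⟩
  · have : Module.Finite R (LinearMap.ker g) := by
      rw [← hfg]; exact Module.Finite.range f
    have : Module.Finite R (M₂ ⧸ LinearMap.ker g) :=
      Module.Finite.equiv (g.quotKerEquivOfSurjective hg).symm
    exact Module.Finite.of_submodule_quotient (LinearMap.ker g)
  · intro N hN
    have hNf : Module.Finite R N := Module.Finite.iff_fg.mpr hN
    have h3 : Module.FinitePresentation R (N.map g) := h₃.2 _ (hN.map g)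
    refine fp_of_ker_range g N h3 ?_
    -- the kernel embeds into `M₁`
    have hK : Module.Finite R (LinearMap.ker (g.submoduleMap N)) := by
      rw [Module.Finite.iff_fg]
      exact Module.FinitePresentation.fg_ker _ (g.submoduleMap_surjective N)
    let e : M₁ ≃ₗ[R] LinearMap.ker g :=
      (LinearEquiv.ofInjective f hf).trans (LinearEquiv.ofEq _ _ hfg)
    let i : LinearMap.ker (g.submoduleMap N) →ₗ[R] LinearMap.ker g :=
      LinearMap.codRestrict (LinearMap.ker g)
        (N.subtype ∘ₗ (LinearMap.ker (g.submoduleMap N)).subtype) (by
          rintro ⟨x, hx⟩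
          have := congrArg Subtype.val hx
          simpa using this)
    refine fp_of_injective (e.symm.toLinearMap ∘ₗ i) ?_ h₁ hK
    refine e.symm.injective.comp ?_
    intro x y hxy
    apply Subtype.ext
    apply Subtype.ext
    have h5 := congrArg (fun z : LinearMap.ker g => (z : M₂)) hxy
    exact h5

theorem coh_of_linearEquiv {M : Type v} {P : Type w} [AddCommGroup M] [Module R M] [AddCommGroup P]
    [Module R P] (e : M ≃ₗ[R] P) (h : Coh R M) : Coh R P := by
  have := h.1
  refine ⟨Module.Finite.equiv e, fun N hN => ?_⟩
  have hNf : Module.Finite R N := Module.Finite.iff_fg.mpr hN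
  exact fp_of_injective (e.symm.toLinearMap ∘ₗ N.subtype)
    (e.symm.injective.comp N.subtype_injective) h hNf

theorem coh_fin (h : Coh R R) (n : ℕ) : Coh R (Fin n → R) := by
  induction n with
  | zero =>
    refine ⟨inferInstance, fun N _ => ?_⟩
    infer_instance
  | succ n ih =>
    refine coh_of_linearEquiv (Fin.consLinearEquiv R (fun _ : Fin (n + 1) => R)) ?_
    refine coh_of_shortExact (LinearMap.inl R R (Fin n → R)) (LinearMap.snd R R (Fin n → R))
      LinearMap.inl_injective LinearMap.snd_surjective ?_ h ih
    exact LinearMap.range_inl R R (Fin n → R)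

theorem coh_of_surjective {M : Type v} {P : Type w} [AddCommGroup M] [Module R M] [AddCommGroup P]
    [Module R P] (f : M →ₗ[R] P) (hf : Function.Surjective f) (hK : (LinearMap.ker f).FG)
    (h : Coh R M) : Coh R P := by
  have := h.1
  refine ⟨Module.Finite.of_surjective f hf, fun N hN => ?_⟩
  have hNf : Module.Finite R N := Module.Finite.iff_fg.mpr hN
  -- the preimage of `N`
  have h1 : (N.comap f).FG := by
    refine Submodule.fg_of_fg_map_of_fg_inf_ker f ?_ ?_
    · rwa [Submodule.map_comap_eq_of_surjective hf]
    · rwa [inf_eq_right.mpr (LinearMap.ker_le_comap f)]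
  have h2 : Module.FinitePresentation R (N.comap f) := h.2 _ h1
  let g : N.comap f →ₗ[R] N := f.restrict (fun x hx => hx)
  have hg : Function.Surjective g := by
    rintro ⟨y, hy⟩
    obtain ⟨x, rfl⟩ := hf y
    exact ⟨⟨x, hy⟩, rfl⟩
  refine Module.finitePresentation_of_surjective g hg ?_
  have h3 : (LinearMap.ker g) = (LinearMap.ker f).comap (N.comap f).subtype := by
    ext x
    simp only [LinearMap.mem_ker, Submodule.mem_comap, Submodule.subtype_apply, g]
    rw [← Subtype.coe_inj]
    rfl
  rw [h3]
  refine Submodule.fg_of_fg_map_injective (N.comap f).subtype (Subtype.val_injective) ?_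
  rwa [Submodule.map_comap_subtype, inf_eq_right.mpr (LinearMap.ker_le_comap f)]

theorem coh_iff_fp (hR : Coh R R) (M : Type v) [AddCommGroup M] [Module R M] :
    Coh R M ↔ Module.FinitePresentation R M := by
  constructor
  · intro h
    have := h.1
    exact fp_of_injective LinearMap.id Function.injective_id h h.1
  · intro h
    obtain ⟨n, K, e, hK⟩ := Module.FinitePresentation.exists_fin R M
    refine coh_of_linearEquiv e.symm ?_
    refine coh_of_surjective K.mkQ K.mkQ_surjective ?_ (coh_fin hR n)
    rwa [Submodule.ker_mkQ]

end K62.CohMod
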