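import Groth.Prelude.Def_Found
import Mathlib.RingTheory.Flat.FaithfullyFlat.Basic
import Mathlib.LinearAlgebra.TensorProduct.Tower
import Mathlib.Data.Set.Countable

/-!
# Descent of countable generation along faithfully flat ring maps
-/

set_option autoImplicit false
universe u

open TensorProduct

namespace K62.CountGen

/-- Every element of `S ⊗ M` is in the `S`-span of finitely many `1 ⊗ m`. -/
theorem exists_finite_span {R S : Type u} [CommRing R] [CommRing S] [Algebra R S]
    {M : Type u} [AddCommGroup M] [Module R M] (z : S ⊗[R] M) :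
    ∃ t : Set M, t.Finite ∧
      z ∈ Submodule.span S ((fun m : M => (1 : S) ⊗ₜ[R] m) '' t) := by
  induction z with
  | zero => exact ⟨∅, Set.finite_empty, Submodule.zero_mem _⟩
  | tmul s m =>
    refine ⟨{m}, Set.finite_singleton m, ?_⟩
    have : s ⊗ₜ[R] m = s • ((1 : S) ⊗ₜ[R] m) := by simp [TensorProduct.smul_tmul']
    rw [this]
    exact Submodule.smul_mem _ _ (Submodule.subset_span ⟨m, rfl, rfl⟩)
  | add x y hx hy =>
    obtain ⟨t, ht, hx⟩ := hx
    obtain ⟨t', ht', hy⟩ := hy
    refine ⟨t ∪ t', ht.union ht', Submodule.add_mem _ ?_ ?_⟩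
    · exact Submodule.span_mono (Set.image_mono Set.subset_union_left) hx
    · exact Submodule.span_mono (Set.image_mono Set.subset_union_right) hy

theorem of_faithfullyFlat (R S : Type u) [CommRing R] [CommRing S] [Algebra R S]
    [Module.FaithfullyFlat R S] (M : Type u) [AddCommGroup M] [Module R M]
    (h : CAlg.IsCountablyGenerated S (S ⊗[R] M)) : CAlg.IsCountablyGenerated R M := by
  obtain ⟨s, hs, hspan⟩ := h
  choose t ht hmem using fun z : S ⊗[R] M => exists_finite_span z
  refine ⟨⋃ z ∈ s, t z, hs.biUnion (fun z _ => (ht z).countable), ?_⟩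
  set N : Submodule R M := Submodule.span R (⋃ z ∈ s, t z) with hN
  have hsurj : Function.Surjective (N.subtype.lTensor S) := by
    have h1 : LinearMap.range (N.subtype.baseChange S) = ⊤ := by
      rw [eq_top_iff, ← hspan, Submodule.span_le]
      intro z hz
      have h2 : Submodule.span S ((fun m : M => (1 : S) ⊗ₜ[R] m) '' (t z)) ≤
          LinearMap.range (N.subtype.baseChange S) := by
        rw [Submodule.span_le]
        rintro _ ⟨m, hm, rfl⟩
        have hmN : m ∈ N := Submodule.subset_span (Set.mem_biUnion hz hm)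
        exact ⟨(1 : S) ⊗ₜ[R] (⟨m, hmN⟩ : N), by simp⟩
      exact h2 (hmem z)
    intro y
    have : y ∈ LinearMap.range (N.subtype.baseChange S) := h1 ▸ Submodule.mem_top
    obtain ⟨x, hx⟩ := this
    exact ⟨x, hx⟩
  have h3 := (Module.FaithfullyFlat.lTensor_surjective_iff_surjective R S N.subtype).1 hsurj
  rw [← LinearMap.range_eq_top, Submodule.range_subtype] at h3
  exact h3

end K62.CountGen
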