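import Groth.Agent.CalgA.ML4

/-!
# Domination of linear maps

`g : M → M'` dominates `f : M → N` if `Ker (f ⊗ Q) ≤ Ker (g ⊗ Q)` for every module `Q`.
* `dominates_of_fp`: it suffices to test on finitely presented `Q`.
* `exists_factor_of_fp_coker`: if `Coker f` is finitely presented and `g` dominates `f`, then `g`
  factors through `f`.
-/

set_option autoImplicit false
universe u v w x

open TensorProduct

namespace K62.Dom

open Groth.Agent.CalgA.ML1 Groth.Agent.CalgA.ML2 Groth.Agent.CalgA.ML4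

section

variable {R : Type u} [CommRing R] {M N M' : Type u}
    [AddCommGroup M] [Module R M] [AddCommGroup N] [Module R N] [AddCommGroup M'] [Module R M']

theorem dominates_of_fp (f : M →ₗ[R] N) (g : M →ₗ[R] M')
    (h : ∀ (Q : Type u) [AddCommGroup Q] [Module R Q], Module.FinitePresentation R Q →
        LinearMap.ker (f.rTensor Q) ≤ LinearMap.ker (g.rTensor Q))
    (Q : Type u) [AddCommGroup Q] [Module R Q] :
    LinearMap.ker (f.rTensor Q) ≤ LinearMap.ker (g.rTensor Q) := by
  classical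
  intro x hx
  rw [LinearMap.mem_ker] at hx ⊢
  obtain ⟨n, p, q, rfl⟩ := TensorProduct.exists_sum_tmul_eq x
  let a : (Fin n → R) →ₗ[R] Q := Fintype.linearCombination R q
  let x₀ : M ⊗[R] (Fin n → R) := ∑ j, p j ⊗ₜ[R] Pi.single j 1
  have hx₀ : a.lTensor M x₀ = ∑ j, p j ⊗ₜ[R] q j := by
    simp [a, x₀, map_sum]
  have h4 : a.lTensor N (f.rTensor _ x₀) = 0 := by
    rw [← LinearMap.comp_apply, LinearMap.lTensor_comp_rTensor, ← LinearMap.rTensor_comp_lTensor,
      LinearMap.comp_apply, hx₀, hx]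
  obtain ⟨N', _, _, b, c, hfp, hcb, hb⟩ := exists_fp_of_lTensor_eq_zero a _ h4
  have h5 : f.rTensor _ (b.lTensor M x₀) = 0 := by
    rw [← LinearMap.comp_apply, LinearMap.rTensor_comp_lTensor, ← LinearMap.lTensor_comp_rTensor,
      LinearMap.comp_apply, hb]
  have h6 : g.rTensor _ (b.lTensor M x₀) = 0 := h N' hfp h5
  rw [← hx₀, ← hcb, LinearMap.lTensor_comp, LinearMap.comp_apply, ← LinearMap.comp_apply,
    LinearMap.rTensor_comp_lTensor, ← LinearMap.lTensor_comp_rTensor, LinearMap.comp_apply, h6,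
    map_zero]

theorem exists_factor_of_fp_coker (f : M →ₗ[R] N) (g : M →ₗ[R] M')
    [Module.FinitePresentation R (N ⧸ LinearMap.range f)]
    (hdom : ∀ (Q : Type u) [AddCommGroup Q] [Module R Q],
      LinearMap.ker (f.rTensor Q) ≤ LinearMap.ker (g.rTensor Q)) :
    ∃ h : N →ₗ[R] M', g = h ∘ₗ f := by
  classical
  -- the kernel of `f` is in the kernel of `g`
  have hker : ∀ m, f m = 0 → g m = 0 := by
    intro m hm
    have h1 : m ⊗ₜ[R] (1 : R) ∈ LinearMap.ker (g.rTensor R) := by
      apply hdom R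
      simp [hm]
    have h2 := congrArg (TensorProduct.rid R M') (LinearMap.mem_ker.mp h1)
    simpa using h2
  obtain ⟨s, F₀, hF₀⟩ := Module.Finite.exists_fin' R (N ⧸ LinearMap.range f)
  have hK : (LinearMap.ker F₀).FG := Module.FinitePresentation.fg_ker F₀ hF₀
  obtain ⟨t, a, ha⟩ := Submodule.fg_iff_exists_fin_generating_family.mp hK
  -- lift the generators
  choose n hn using fun j : Fin s =>
    (LinearMap.range f).mkQ_surjective (F₀ (Pi.single j 1))
  let F : (Fin s → R) →ₗ[R] N := Fintype.linearCombination R n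
  have hF : ∀ c, (LinearMap.range f).mkQ (F c) = F₀ c := by
    intro c
    conv_rhs => rw [← Finset.univ_sum_single c]
    simp only [F, Fintype.linearCombination_apply, map_sum, map_smul]
    refine Finset.sum_congr rfl (fun j _ => ?_)
    rw [hn j, ← map_smul]
    congr 1
    ext i
    simp [Pi.single_apply]
  have hrel : ∀ l : Fin t, ∃ m : M, f m = F (a l) := by
    intro l
    have h1 : F₀ (a l) = 0 := by
      have : a l ∈ LinearMap.ker F₀ := ha ▸ Submodule.subset_span ⟨l, rfl⟩
      exact this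
    rw [← hF, ← LinearMap.mem_ker, Submodule.ker_mkQ] at h1
    exact h1
  choose m hm using hrel
  let A : (Fin s → R) →ₗ[R] (Fin t → R) :=
    LinearMap.pi (fun l => Fintype.linearCombination R (a l))
  have hA : ∀ j l, A (Pi.single j 1) l = a l j := by
    intro j l
    simp [A]
  let e : Fin t → ((Fin t → R) ⧸ LinearMap.range A) :=
    fun l => (LinearMap.range A).mkQ (Pi.single l 1)
  have hrel' : ∀ j, ∑ l, a l j • e l = 0 := by
    intro j
    have h1 : (LinearMap.range A).mkQ (A (Pi.single j 1)) = 0 := by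
      rw [← LinearMap.mem_ker, Submodule.ker_mkQ]
      exact ⟨_, rfl⟩
    rw [← h1]
    simp only [e]
    simp_rw [← map_smul, ← map_sum]
    congr 1
    ext κ
    rw [hA]
    simp [Pi.single_apply]
  have hx : f.rTensor _ (∑ l, m l ⊗ₜ[R] e l) = 0 := by
    rw [map_sum]
    simp only [LinearMap.rTensor_tmul, hm, F, Fintype.linearCombination_apply, sum_tmul, smul_tmul]
    rw [Finset.sum_comm]
    simp_rw [← tmul_sum, hrel', tmul_zero, Finset.sum_const_zero]
  have hx2 : g.rTensor _ (∑ l, m l ⊗ₜ[R] e l) = 0 := hdom _ hx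
  have hw : ∑ l, e l ⊗ₜ[R] g (m l) = 0 := by
    have := congrArg (TensorProduct.comm R _ _) hx2
    rw [map_zero] at this
    rw [← this]
    simp
  obtain ⟨z, hz⟩ := exists_solution A (fun l => g (m l)) hw
  let φ₀ : (Fin s → R) →ₗ[R] M' := Fintype.linearCombination R z
  have hφ₀ : ∀ l, φ₀ (a l) = g (m l) := by
    intro l
    rw [hz l]
    simp [φ₀, hA, Fintype.linearCombination_apply]
  -- the surjection `M × R^s → N`
  let π : M × (Fin s → R) →ₗ[R] N := f.coprod F
  have hπ : Function.Surjective π := by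
    intro y
    obtain ⟨c, hc⟩ := hF₀ ((LinearMap.range f).mkQ y)
    rw [← hF, ← sub_eq_zero, ← map_sub, ← LinearMap.mem_ker, Submodule.ker_mkQ] at hc
    obtain ⟨x, hx⟩ := hc
    refine ⟨(-x, c), ?_⟩
    simp [π, hx]
  let ψ : M × (Fin s → R) →ₗ[R] M' := g.coprod φ₀
  have hkπ : LinearMap.ker π ≤ LinearMap.ker ψ := by
    rintro ⟨x, c⟩ hxc
    rw [LinearMap.mem_ker] at hxc ⊢
    have h1 : f x + F c = 0 := by simpa [π] using hxc
    have h2 : c ∈ LinearMap.ker F₀ := by
      rw [LinearMap.mem_ker, ← hF, ← LinearMap.mem_ker, Submodule.ker_mkQ]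
      exact ⟨-x, by rw [map_neg, neg_eq_iff_add_eq_zero, h1]⟩
    rw [← ha, Submodule.mem_span_range_iff_exists_fun] at h2
    obtain ⟨d, rfl⟩ := h2
    have h3 : f (x + ∑ l, d l • m l) = 0 := by
      rw [map_add, ← h1]
      congr 1
      rw [map_sum, map_sum]
      exact Finset.sum_congr rfl (fun l _ => by rw [map_smul, map_smul, hm])
    have h4 := hker _ h3
    rw [← h4, map_add]
    simp only [ψ, LinearMap.coprod_apply]
    congr 1
    rw [map_sum, map_sum]
    exact Finset.sum_congr rfl (fun l _ => by rw [map_smul, map_smul, hφ₀])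
  let h : N →ₗ[R] M' := (LinearMap.ker π).liftQ ψ hkπ ∘ₗ
    (π.quotKerEquivOfSurjective hπ).symm.toLinearMap
  have hh : ∀ y, h (π y) = ψ y := by
    intro y
    have : (π.quotKerEquivOfSurjective hπ).symm (π y) = (LinearMap.ker π).mkQ y := by
      rw [LinearEquiv.symm_apply_eq]
      rfl
    simp [h, this]
  refine ⟨h, ?_⟩
  ext x
  have := hh (x, 0)
  simpa [π, ψ] using this.symm

theorem dominates_of_factor (f : M →ₗ[R] N) (h : N →ₗ[R] M') (Q : Type w) [AddCommGroup Q]
    [Module R Q] : LinearMap.ker (f.rTensor Q) ≤ LinearMap.ker ((h ∘ₗ f).rTensor Q) := by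
  intro x hx
  rw [LinearMap.mem_ker] at hx ⊢
  rw [LinearMap.rTensor_comp, LinearMap.comp_apply, hx, map_zero]

end

end K62.Dom
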