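import Mathlib.Algebra.Algebra.Epi
import Mathlib.RingTheory.Flat.FaithfullyFlat.Descent
import Mathlib.RingTheory.LocalRing.ResidueField.Fiber
import Mathlib.RingTheory.Localization.AtPrime.Basic
import Mathlib.RingTheory.TensorProduct.Basic

/-!
# Epimorphisms of rings: elementary facts

* `algebraMap_bijective_of_faithfullyFlat`: faithfully flat epimorphisms are bijective.
* `isEpi_baseChange`: base change of an epimorphism.
* `isEpi_field`: epimorphisms with source a field.
* `isEpi_iff_linear`: epimorphisms and restriction of scalars.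
-/

set_option autoImplicit false
universe u v w

open TensorProduct

namespace K62.Epi

theorem one_tmul_eq {R S : Type*} [CommRing R] [CommRing S] [Algebra R S] [Algebra.IsEpi R S]
    (s : S) : (1 : S) ⊗ₜ[R] s = s ⊗ₜ[R] 1 :=
  (Algebra.isEpi_iff_forall_one_tmul_eq R S).1 inferInstance s

theorem algebraMap_bijective_of_faithfullyFlat (R S : Type*) [CommRing R] [CommRing S]
    [Algebra R S] [Module.FaithfullyFlat R S] [Algebra.IsEpi R S] :
    Function.Bijective (algebraMap R S) := by
  refine Module.FaithfullyFlat.bijective_of_tensorProduct (R := R) (S := S) (T := S) ⟨?_, ?_⟩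
  · intro a b hab
    have h := congrArg (Algebra.TensorProduct.lmul' R (S := S)) hab
    simpa using h
  · intro x
    induction x with
    | zero => exact ⟨0, by simp⟩
    | tmul a b =>
      refine ⟨a * b, ?_⟩
      have h : a ⊗ₜ[R] b = (a ⊗ₜ[R] 1) * (1 ⊗ₜ[R] b) := by simp
      rw [h, one_tmul_eq b]
      simp
    | add x y hx hy =>
      obtain ⟨a, ha⟩ := hx
      obtain ⟨b, hb⟩ := hy
      exact ⟨a + b, by rw [map_add, ha, hb]⟩

/-- Base change of an epimorphism is an epimorphism. -/
theorem isEpi_baseChange (R S T : Type*) [CommRing R] [CommRing S] [CommRing T]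
    [Algebra R S] [Algebra R T] [Algebra.IsEpi R S] : Algebra.IsEpi T (T ⊗[R] S) := by
  rw [Algebra.isEpi_iff_forall_one_tmul_eq]
  intro x
  induction x with
  | zero => simp
  | tmul t s =>
    let f : S →ₐ[R] T ⊗[R] S := Algebra.TensorProduct.includeRight
    let g : S ⊗[R] S →ₐ[R] (T ⊗[R] S) ⊗[T] (T ⊗[R] S) :=
      Algebra.TensorProduct.lift
        ((Algebra.TensorProduct.includeLeft (R := T) (S := T) (A := T ⊗[R] S)
          (B := T ⊗[R] S)).restrictScalars R |>.comp f)
        ((Algebra.TensorProduct.includeRight (R := T) (A := T ⊗[R] S)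
          (B := T ⊗[R] S)).restrictScalars R |>.comp f)
        (fun _ _ => .all _ _)
    have h := congrArg g (one_tmul_eq (R := R) s)
    simp only [g, f, Algebra.TensorProduct.lift_tmul, map_one, one_mul, mul_one,
      AlgHom.comp_apply, AlgHom.restrictScalars_apply, Algebra.TensorProduct.includeLeft_apply,
      Algebra.TensorProduct.includeRight_apply] at h
    have e : t ⊗ₜ[R] s = t • ((1 : T) ⊗ₜ[R] s) := by simp [TensorProduct.smul_tmul']
    rw [e, tmul_smul, ← smul_tmul', h]
  | add x y hx hy => rw [tmul_add, add_tmul, hx, hy]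

theorem isEpi_of_algEquiv {R S T : Type*} [CommRing R] [CommRing S] [CommRing T]
    [Algebra R S] [Algebra R T] (e : S ≃ₐ[R] T) [Algebra.IsEpi R S] : Algebra.IsEpi R T := by
  rw [Algebra.isEpi_iff_forall_one_tmul_eq]
  intro t
  obtain ⟨s, rfl⟩ := e.surjective t
  have h := congrArg (Algebra.TensorProduct.map e.toAlgHom e.toAlgHom) (one_tmul_eq (R := R) s)
  simpa using h

theorem isEpi_field (k S : Type*) [Field k] [CommRing S] [Algebra k S] [Algebra.IsEpi k S] :
    Subsingleton S ∨ Function.Bijective (algebraMap k S) := by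
  rcases subsingleton_or_nontrivial S with h | h
  · exact Or.inl h
  · exact Or.inr (algebraMap_bijective_of_faithfullyFlat k S)

theorem isEpi_iff_linear (R S : Type u) [CommRing R] [CommRing S] [Algebra R S] :
    Algebra.IsEpi R S ↔
      ∀ (N₁ N₂ : Type u) [AddCommGroup N₁] [Module S N₁] [Module R N₁] [IsScalarTower R S N₁]
        [AddCommGroup N₂] [Module S N₂] [Module R N₂] [IsScalarTower R S N₂] (φ : N₁ →ₗ[R] N₂),
        ∀ (s : S) (x : N₁), φ (s • x) = s • φ x := by
  constructor
  · intro h N₁ N₂ _ _ _ _ _ _ _ _ φ s x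
    let B : S →ₗ[R] S →ₗ[R] N₂ := LinearMap.mk₂ R (fun a b => a • φ (b • x))
      (fun a b c => add_smul a b _) (fun c a b => smul_assoc c a _)
      (fun a b c => by rw [add_smul, map_add, smul_add])
      (fun c a b => by rw [smul_assoc, map_smul, smul_comm])
    have h2 := congrArg (TensorProduct.lift B) (one_tmul_eq (R := R) s)
    simpa [B] using h2
  · intro h
    rw [Algebra.isEpi_iff_forall_one_tmul_eq]
    intro s
    have := h S (S ⊗[R] S) (TensorProduct.mk R S S 1) s 1
    simpa [TensorProduct.smul_tmul'] using this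

end K62.Epi
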