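import Groth.Agent.CAlg.K62.Epi
import Mathlib.LinearAlgebra.TensorProduct.Vanishing
import Mathlib.LinearAlgebra.TensorProduct.Finiteness
import Mathlib.SetTheory.Cardinal.Arithmetic

/-!
# Isbell's zigzag lemma and the cardinality of epimorphic extensions
-/

set_option autoImplicit false
universe u v w

open TensorProduct

namespace K62.EpiCard

open K62.Epi

/-- The zigzag relation: `g = ∑ X i * P i j * Y j` with `X P = U`, `P Y = V`. -/
def Zig (R : Type u) {S : Type v} [CommRing R] [CommRing S] [Algebra R S] {n k : ℕ}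
    (P : Fin n → Fin k → R) (U : Fin k → R) (V : Fin n → R) (g : S) : Prop :=
  ∃ (X : Fin n → S) (Y : Fin k → S), (∑ i, ∑ j, X i * algebraMap R S (P i j) * Y j = g) ∧
    (∀ j, ∑ i, X i * algebraMap R S (P i j) = algebraMap R S (U j)) ∧
    (∀ i, ∑ j, algebraMap R S (P i j) * Y j = algebraMap R S (V i))

theorem Zig.unique {R : Type u} {S : Type v} [CommRing R] [CommRing S] [Algebra R S] {n k : ℕ}
    {P : Fin n → Fin k → R} {U : Fin k → R} {V : Fin n → R} {g g' : S}
    (h : Zig R P U V g) (h' : Zig R P U V g') : g = g' := by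
  obtain ⟨X, Y, hg, hU, hV⟩ := h
  obtain ⟨X', Y', hg', hU', hV'⟩ := h'
  have h1 : g = ∑ i, X i * algebraMap R S (V i) := by
    rw [← hg]
    refine Finset.sum_congr rfl (fun i _ => ?_)
    rw [← hV, Finset.mul_sum]
    exact Finset.sum_congr rfl (fun j _ => mul_assoc _ _ _)
  have h2 : g' = ∑ j, algebraMap R S (U j) * Y' j := by
    rw [← hg', Finset.sum_comm]
    refine Finset.sum_congr rfl (fun j _ => ?_)
    rw [← hU', Finset.sum_mul]
  rw [h1, h2]
  simp_rw [← hV', ← hU, Finset.mul_sum, Finset.sum_mul]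
  rw [Finset.sum_comm]
  refine Finset.sum_congr rfl (fun j _ => Finset.sum_congr rfl (fun i _ => ?_))
  rw [mul_assoc]

theorem exists_ker_rTensor {R : Type*} [CommRing R] {A : Type*} {B : Type*} [AddCommGroup A]
    [Module R A] [AddCommGroup B] [Module R B] (φ : A →ₗ[R] B) (hφ : Function.Surjective φ)
    {N : Type*} [AddCommGroup N] [Module R N] (y : A ⊗[R] N) (hy : φ.rTensor N y = 0) :
    ∃ z : (LinearMap.ker φ) ⊗[R] N, (LinearMap.ker φ).subtype.rTensor N z = y :=
  ((rTensor_exact N (LinearMap.exact_subtype_ker_map φ) hφ) y).mp hy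

theorem exists_zig (R : Type u) {S : Type v} [CommRing R] [CommRing S] [Algebra R S]
    [Algebra.IsEpi R S] (g : S) :
    ∃ (n k : ℕ) (P : Fin n → Fin k → R) (U : Fin k → R) (V : Fin n → R), Zig R P U V g := by
  classical
  -- `1 ⊗ g - g ⊗ 1 = 0` already in `M ⊗ S` for a finite submodule `M`
  have h0 : (1 : S) ⊗ₜ[R] g - g ⊗ₜ[R] 1 = 0 := by rw [one_tmul_eq, sub_self]
  -- use the free module on `S`
  let π : (S →₀ R) →ₗ[R] S := Finsupp.linearCombination R (fun m : S => m)
  have hπ : Function.Surjective π := fun m => ⟨Finsupp.single m 1, by simp [π]⟩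
  have h1 : π.rTensor S ((Finsupp.single (1 : S) (1 : R)) ⊗ₜ[R] g -
      (Finsupp.single g (1 : R)) ⊗ₜ[R] (1 : S)) = 0 := by
    rw [map_sub]
    simpa [π] using h0
  obtain ⟨z, hz⟩ := exists_ker_rTensor π hπ _ h1
  obtain ⟨k, κ, y, hk⟩ := TensorProduct.exists_sum_tmul_eq z
  rw [hk] at hz
  -- coefficients
  have hcoef : ∀ m : S, ∑ j, (κ j : S →₀ R) m • y j =
      (if m = 1 then g else 0) - (if m = g then 1 else 0) := by
    intro m
    have h2 := congrArg (TensorProduct.lid R S)
      (congrArg ((Finsupp.lapply m : (S →₀ R) →ₗ[R] R).rTensor S) hz)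
    simp only [map_sum, map_sub, LinearMap.rTensor_tmul, Submodule.subtype_apply,
      Finsupp.lapply_apply, TensorProduct.lid_tmul, Finsupp.single_apply] at h2
    rw [h2]
    congr 1
    · by_cases h : m = 1
      · simp [h]
      · simp [h, Ne.symm h]
    · by_cases h : m = g
      · simp [h]
      · simp [h, Ne.symm h]
  -- the finite set of indices
  let s : Finset S := (Finset.univ.biUnion (fun j : Fin k => (κ j : S →₀ R).support)) ∪ {1, g}
  have hs : ∀ j, (κ j : S →₀ R).support ⊆ s := fun j =>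
    (Finset.subset_biUnion_of_mem (fun j : Fin k => (κ j : S →₀ R).support)
      (Finset.mem_univ j)).trans Finset.subset_union_left
  have h1s : (1 : S) ∈ s := by simp [s]
  have hrel : ∀ j, ∑ m ∈ s, m * algebraMap R S ((κ j : S →₀ R) m) = 0 := by
    intro j
    have h3 : π (κ j : S →₀ R) = 0 := (κ j).2
    rw [Finsupp.linearCombination_apply, Finsupp.sum_of_support_subset _ (hs j) _ (by simp)] at h3
    rw [← h3]
    refine Finset.sum_congr rfl (fun m _ => ?_)
    rw [Algebra.smul_def, mul_comm]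
  -- the index set without `1`
  let s' : Finset S := s.erase 1
  let e := s'.equivFin
  have hsum : ∀ f : S → S, ∑ i, f ((e.symm i : s') : S) = ∑ m ∈ s, f m - f 1 := by
    intro f
    rw [← Finset.add_sum_erase s f h1s, add_sub_cancel_left,
      ← Finset.sum_coe_sort s' f]
    exact Equiv.sum_comp e.symm (fun m : s' => f m)
  have hne : ∀ i, ((e.symm i : s') : S) ≠ 1 := fun i => (Finset.mem_erase.mp (e.symm i).2).1
  by_cases hg1 : g = 1
  · refine ⟨1, 1, fun _ _ => 1, fun _ => 1, fun _ => 1, fun _ => 1, fun _ => 1, ?_, ?_, ?_⟩ <;>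
      simp [hg1]
  refine ⟨_, k, fun i j => (κ j : S →₀ R) ((e.symm i : s') : S), fun j => (κ j : S →₀ R) 1,
    fun i => if ((e.symm i : s') : S) = g then -1 else 0,
    fun i => -((e.symm i : s') : S), y, ?_, ?_, ?_⟩
  · -- the sum
    have h4 : ∀ i : Fin s'.card, ∑ j, -((e.symm i : s') : S) *
        algebraMap R S ((κ j : S →₀ R) ((e.symm i : s') : S)) * y j =
          if ((e.symm i : s') : S) = g then g else 0 := by
      intro i
      have h5 := hcoef ((e.symm i : s') : S)
      rw [if_neg (hne i), zero_sub] at h5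
      simp_rw [Algebra.smul_def] at h5
      simp_rw [mul_assoc]
      rw [← Finset.mul_sum, h5]
      by_cases h : ((e.symm i : s') : S) = g
      · simp [h]
      · simp [h]
    rw [Finset.sum_congr rfl (fun i _ => h4 i)]
    have hgs : g ∈ s := by simp [s]
    rw [hsum (fun m => if m = g then g else 0)]
    simp [hgs, Ne.symm hg1]
  · intro j
    have h6 := hsum (fun m => -m * algebraMap R S ((κ j : S →₀ R) m))
    rw [h6]
    have h7 : ∑ m ∈ s, -m * algebraMap R S ((κ j : S →₀ R) m) = 0 := by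
      simp_rw [neg_mul]
      rw [Finset.sum_neg_distrib, hrel, neg_zero]
    rw [h7]
    ring
  · intro i
    have h5 := hcoef ((e.symm i : s') : S)
    rw [if_neg (hne i), zero_sub] at h5
    simp_rw [Algebra.smul_def] at h5
    rw [h5]
    by_cases h : ((e.symm i : s') : S) = g
    · simp [h]
    · simp [h]

theorem card_le (R : Type u) (S : Type u) [CommRing R] [CommRing S] [Algebra R S]
    [Algebra.IsEpi R S] [Infinite R] : Cardinal.mk S ≤ Cardinal.mk R := by
  choose n k P U V hz using fun g : S => exists_zig R g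
  let T := Σ nk : ℕ × ℕ, (Fin nk.1 → Fin nk.2 → R) × (Fin nk.2 → R) × (Fin nk.1 → R)
  let F : S → T := fun g => ⟨(n g, k g), P g, U g, V g⟩
  have hF : Function.Injective F := by
    intro g g' h
    have h1 := hz g
    have h2 := hz g'
    simp only [F] at h
    have key : ∀ (t : T), t = F g → Zig R t.2.1 t.2.2.1 t.2.2.2 g := by
      rintro t rfl
      exact h1
    have key' : ∀ (t : T), t = F g' → Zig R t.2.1 t.2.2.1 t.2.2.2 g' := by
      rintro t rfl
      exact h2
    exact (key (F g) rfl).unique (key' (F g) h)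
  refine (Cardinal.mk_le_of_injective hF).trans ?_
  have hR : Cardinal.aleph0 ≤ Cardinal.mk R := Cardinal.infinite_iff.mp inferInstance
  have h1 : ∀ n : ℕ, Cardinal.mk (Fin n → R) ≤ Cardinal.mk R := by
    intro n
    simpa using Cardinal.power_nat_le (n := n) hR
  have h2 : ∀ n k : ℕ, Cardinal.mk (Fin n → Fin k → R) ≤ Cardinal.mk R := by
    intro n k
    have : Cardinal.mk (Fin n → Fin k → R) = Cardinal.mk (Fin k → R) ^ (n : Cardinal) := by simp
    rw [this]
    exact (Cardinal.power_le_power_right (h1 k)).trans (Cardinal.power_nat_le hR)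
  have h3 : ∀ nk : ℕ × ℕ, Cardinal.mk
      ((Fin nk.1 → Fin nk.2 → R) × (Fin nk.2 → R) × (Fin nk.1 → R)) ≤ Cardinal.mk R := by
    intro nk
    rw [Cardinal.mk_prod, Cardinal.mk_prod]
    simp only [Cardinal.lift_id]
    exact (mul_le_mul' (h2 _ _) ((mul_le_mul' (h1 _) (h1 _)).trans
      (Cardinal.mul_eq_self hR).le)).trans (Cardinal.mul_eq_self hR).le
  calc Cardinal.mk T = Cardinal.sum (fun nk : ℕ × ℕ => Cardinal.mk
      ((Fin nk.1 → Fin nk.2 → R) × (Fin nk.2 → R) × (Fin nk.1 → R))) := Cardinal.mk_sigma _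
    _ ≤ Cardinal.sum (fun _ : ℕ × ℕ => Cardinal.mk R) := Cardinal.sum_le_sum _ _ h3
    _ = Cardinal.aleph0 * Cardinal.mk R := by simp
    _ = Cardinal.mk R := Cardinal.aleph0_mul_eq hR

end K62.EpiCard
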