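import Groth.Agent.CAlg.K62.Epi
import Mathlib.RingTheory.LocalProperties.Basic
import Mathlib.RingTheory.Localization.BaseChange
import Mathlib.RingTheory.LocalRing.ResidueField.Fiber

/-!
# Epimorphisms of rings and localization, fibres
-/

set_option autoImplicit false
universe u v w

open TensorProduct

namespace K62.EpiLoc

open K62.Epi

theorem isEpi_localization (R S : Type*) [CommRing R] [CommRing S] [Algebra R S] [Algebra.IsEpi R S]
    (p : Ideal R) [p.IsPrime] :
    Algebra.IsEpi (Localization.AtPrime p)
      (Localization (Algebra.algebraMapSubmonoid S p.primeCompl)) := by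
  set A := Localization.AtPrime p
  set B := Localization (Algebra.algebraMapSubmonoid S p.primeCompl)
  rw [Algebra.isEpi_iff_forall_one_tmul_eq]
  intro x
  obtain ⟨s, ⟨_, r, hr, rfl⟩, rfl⟩ := IsLocalization.exists_mk'_eq
    (Algebra.algebraMapSubmonoid S p.primeCompl) x
  -- the basic relation
  let Φ : S ⊗[R] S →ₐ[R] B ⊗[A] B := Algebra.TensorProduct.lift
    (((Algebra.TensorProduct.includeLeft (R := A) (S := A) (A := B) (B := B)).restrictScalars R).comp
      (IsScalarTower.toAlgHom R S B))
    (((Algebra.TensorProduct.includeRight (R := A) (A := B) (B := B)).restrictScalars R).comp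
      (IsScalarTower.toAlgHom R S B)) (fun _ _ => .all _ _)
  have h := congrArg Φ (one_tmul_eq (R := R) s)
  simp only [Φ, Algebra.TensorProduct.lift_tmul, map_one, one_mul, mul_one,
      AlgHom.comp_apply, AlgHom.restrictScalars_apply, Algebra.TensorProduct.includeLeft_apply,
      Algebra.TensorProduct.includeRight_apply, IsScalarTower.coe_toAlgHom'] at h
  let u : A := IsLocalization.mk' A (1 : R) (⟨r, hr⟩ : p.primeCompl)
  have hu : u * algebraMap R A r = 1 := by
    simp [u]
  have key : IsLocalization.mk' B s
      (⟨algebraMap R S r, r, hr, rfl⟩ : Algebra.algebraMapSubmonoid S p.primeCompl) =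
        u • algebraMap S B s := by
    rw [IsLocalization.mk'_eq_iff_eq_mul]
    have h1 : algebraMap S B (algebraMap R S r) = algebraMap A B (algebraMap R A r) := by
      rw [← IsScalarTower.algebraMap_apply, ← IsScalarTower.algebraMap_apply]
    rw [Algebra.smul_def]
    change _ = _ * (algebraMap S B (algebraMap R S r))
    rw [h1, mul_comm (algebraMap A B u), mul_assoc, ← map_mul, hu, map_one, mul_one]
  rw [key, tmul_smul, h, smul_tmul']

theorem isEpi_of_localization (R S : Type*) [CommRing R] [CommRing S] [Algebra R S]
    (h : ∀ (p : Ideal R) [p.IsPrime], Algebra.IsEpi (Localization.AtPrime p)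
      (Localization (Algebra.algebraMapSubmonoid S p.primeCompl))) : Algebra.IsEpi R S := by
  rw [Algebra.isEpi_iff_forall_one_tmul_eq]
  intro s
  refine Module.eq_of_localization_maximal (R := R) (M := S ⊗[R] S)
    (fun P [P.IsMaximal] => (Localization (Algebra.algebraMapSubmonoid S P.primeCompl)) ⊗[R]
      (Localization (Algebra.algebraMapSubmonoid S P.primeCompl)))
    (fun P [P.IsMaximal] => TensorProduct.map
      (IsScalarTower.toAlgHom R S
        (Localization (Algebra.algebraMapSubmonoid S P.primeCompl))).toLinearMap
      (IsScalarTower.toAlgHom R S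
        (Localization (Algebra.algebraMapSubmonoid S P.primeCompl))).toLinearMap) _ _ ?_
  intro P _
  set B := Localization (Algebra.algebraMapSubmonoid S P.primeCompl)
  have := h P
  have h1 := one_tmul_eq (R := Localization.AtPrime P) (algebraMap S B s)
  have h2 := congrArg
    (IsLocalization.moduleTensorEquiv P.primeCompl (Localization.AtPrime P) B B) h1
  have h3 : ∀ a b : B, IsLocalization.moduleTensorEquiv P.primeCompl (Localization.AtPrime P) B B
      (a ⊗ₜ b) = a ⊗ₜ b := fun a b => rfl
  rw [h3, h3] at h2
  simpa using h2

/-- An epimorphism of rings induces an injective map on spectra, and trivial fibres. -/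
theorem fiber (R S : Type*) [CommRing R] [CommRing S] [Algebra R S] [Algebra.IsEpi R S] :
    Function.Injective (PrimeSpectrum.comap (algebraMap R S)) ∧
      ∀ (p : Ideal R) [p.IsPrime],
        Subsingleton (p.Fiber S) ∨
          Function.Bijective (algebraMap p.ResidueField (p.Fiber S)) := by
  have key : ∀ (p : Ideal R) [p.IsPrime],
        Subsingleton (p.Fiber S) ∨
          Function.Bijective (algebraMap p.ResidueField (p.Fiber S)) := by
    intro p _
    have := isEpi_baseChange R S p.ResidueField
    exact isEpi_field p.ResidueField (p.Fiber S)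
  refine ⟨?_, key⟩
  intro q q' hqq'
  have e := PrimeSpectrum.preimageEquivFiber R S (PrimeSpectrum.comap (algebraMap R S) q)
  have hs : Subsingleton (PrimeSpectrum
      ((PrimeSpectrum.comap (algebraMap R S) q).asIdeal.Fiber S)) := by
    rcases key (PrimeSpectrum.comap (algebraMap R S) q).asIdeal with h | h
    · infer_instance
    · have e' := PrimeSpectrum.homeomorphOfRingEquiv (RingEquiv.ofBijective _ h)
      exact e'.toEquiv.symm.subsingleton
  have hs' := e.subsingleton
  have := @Subsingleton.elim _ hs' ⟨q, rfl⟩ ⟨q', hqq'.symm⟩
  exact congrArg Subtype.val this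

end K62.EpiLoc
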