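import Groth.Agent.CAlg.K62.TorVan
import Mathlib.Algebra.Module.Torsion.Basic
import Mathlib.RingTheory.Localization.BaseChange
import Mathlib.RingTheory.Flat.Localization
import Mathlib.RingTheory.Finiteness.Ideal

/-!
# A flatness criterion: flat away from `V(I)`, flat modulo `I`, and finitely many Tor's vanish
-/

set_option autoImplicit false
universe u

open TensorProduct Groth.Agent.CycA.TorBasic Groth.Agent.CycA.TorShift K62.TorVan

namespace K62.FlatCrit

variable {A : Type u} [CommRing A]

theorem V_subsingleton {n : ℕ} (hn : 1 ≤ n) (M N : Type u) [AddCommGroup M] [Module A M]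
    [AddCommGroup N] [Module A N] [Subsingleton N] : V A n M N :=
  V_comm (V_flat_left n hn N M)

theorem V_pow (I : Ideal A) (k : ℕ) (M : Type u) [AddCommGroup M] [Module A M]
    (H : ∀ (N : Type u) [AddCommGroup N] [Module A N], (∀ a ∈ I, ∀ x : N, a • x = 0) →
      ∀ n, 1 ≤ n → n ≤ k → V A n M N) (m : ℕ) :
    ∀ (N : Type u) [AddCommGroup N] [Module A N], (∀ a ∈ I ^ m, ∀ x : N, a • x = 0) →
      ∀ n, 1 ≤ n → n ≤ k → V A n M N := by
  induction m with
  | zero =>
    intro N _ _ hN n h1 h2
    have : Subsingleton N := by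
      refine ⟨fun x y => ?_⟩
      have h3 : ∀ x : N, x = 0 := fun x => by
        have := hN 1 (by simp) x
        rwa [one_smul] at this
      rw [h3 x, h3 y]
    exact V_subsingleton h1 M N
  | succ m ih =>
    intro N _ _ hN n h1 h2
    let N' : Submodule A N := I • ⊤
    refine mid_right N'.subtype N'.mkQ N'.subtype_injective (LinearMap.exact_subtype_mkQ N')
      N'.mkQ_surjective (ih N' ?_ n h1 h2) (H (N ⧸ N') ?_ n h1 h2)
    · rintro a ha ⟨x, hx⟩
      apply Subtype.ext
      change a • x = 0
      refine Submodule.smul_induction_on (p := fun x => a • x = 0) hx ?_ ?_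
      · intro b hb y _
        rw [smul_smul]
        refine hN _ ?_ y
        rw [pow_succ]
        exact Ideal.mul_mem_mul ha hb
      · intro x y hx hy
        rw [smul_add, hx, hy, add_zero]
    · intro a ha x
      obtain ⟨x, rfl⟩ := N'.mkQ_surjective x
      rw [← map_smul, Submodule.mkQ_apply, Submodule.Quotient.mk_eq_zero]
      exact Submodule.smul_mem_smul ha trivial

theorem V_torsion (I : Ideal A) (k : ℕ) : ∀ (M : Type u) [AddCommGroup M] [Module A M],
    (∀ (m : ℕ) (N : Type u) [AddCommGroup N] [Module A N], (∀ a ∈ I ^ m, ∀ x : N, a • x = 0) →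
      ∀ n, 1 ≤ n → n ≤ k → V A n M N) →
    ∀ (N : Type u) [AddCommGroup N] [Module A N], (∀ x : N, ∃ m : ℕ, ∀ a ∈ I ^ m, a • x = 0) →
      ∀ n, 1 ≤ n → n ≤ k → V A n M N := by
  induction k with
  | zero => intro M _ _ _ N _ _ _ n h1 h2; omega
  | succ k ih =>
    intro M _ _ H N _ _ hN n h1 h2
    obtain ⟨K, P, _, _, _, _, f, g, hP, hf, h, hg⟩ := exists_free_cover (A := A) M
    rcases Nat.lt_or_ge n 2 with hn | hn
    · obtain rfl : n = 1 := by omega
      rw [V_one_iff f g hf h hg, injective_iff_map_eq_zero]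
      intro z hz
      obtain ⟨s, κ, x, rfl⟩ := TensorProduct.exists_sum_tmul_eq z
      choose m hm using fun j => hN (x j)
      obtain ⟨M₀, hM₀⟩ := Finite.exists_le m
      let N₀ : Submodule A N := Submodule.span A (Set.range x)
      have hkill : ∀ a ∈ I ^ M₀, ∀ y : N₀, a • y = 0 := by
        rintro a ha ⟨y, hy⟩
        apply Subtype.ext
        change a • y = 0
        refine Submodule.span_induction (p := fun y _ => a • y = 0) ?_ ?_ ?_ ?_ hy
        · rintro _ ⟨j, rfl⟩
          exact hm j a (Ideal.pow_le_pow_right (hM₀ j) ha)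
        · exact smul_zero a
        · intro y z _ _ hy hz
          rw [smul_add, hy, hz, add_zero]
        · intro c y _ hy
          rw [smul_comm, hy, smul_zero]
      have hinj := (V_one_iff f g hf h hg (N := N₀)).1 (H M₀ N₀ hkill 1 le_rfl h2)
      let z₀ : K ⊗[A] N₀ := ∑ j, κ j ⊗ₜ[A] (⟨x j, Submodule.subset_span ⟨j, rfl⟩⟩ : N₀)
      have hz₀ : LinearMap.lTensor K N₀.subtype z₀ = ∑ j, κ j ⊗ₜ[A] x j := by
        simp [z₀, map_sum]
      have h3 : LinearMap.rTensor N₀ f z₀ = 0 := by
        have hfl : Function.Injective (LinearMap.lTensor P N₀.subtype) :=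
          Module.Flat.lTensor_preserves_injective_linearMap _ N₀.subtype_injective
        apply hfl
        rw [map_zero, ← hz, ← hz₀, ← LinearMap.comp_apply, ← LinearMap.comp_apply,
          LinearMap.lTensor_comp_rTensor, LinearMap.rTensor_comp_lTensor]
      have h4 : z₀ = 0 := hinj (by rw [h3, map_zero])
      rw [← hz₀, h4, map_zero]
    · obtain ⟨n, rfl⟩ := Nat.exists_eq_add_of_le' hn
      rw [V_succ_iff f g hf h hg]
      refine ih K (fun m N _ _ hN n hn1 hnk => ?_) N hN (n + 1) (by omega) (by omega)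
      obtain ⟨n, rfl⟩ := Nat.exists_eq_add_of_le' hn1
      rw [← V_succ_iff f g hf h hg]
      exact H m N hN (n + 2) (by omega) (by omega)

theorem V_localization (s : A) (M : Type u) [AddCommGroup M] [Module A M]
    (h : Module.Flat (Localization.Away s) (LocalizedModule (Submonoid.powers s) M))
    (N : Type u) [AddCommGroup N] [Module A N] (n : ℕ) (hn : 1 ≤ n) :
    V A n M (LocalizedModule (Submonoid.powers s) N) := by
  have hfl : Module.Flat A (Localization.Away s) :=
    IsLocalization.flat (Localization.Away s) (Submonoid.powers s)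
  have hfl' : Module.Flat (Localization.Away s) ((Localization.Away s) ⊗[A] M) :=
    Module.Flat.of_linearEquiv (LocalizedModule.equivTensorProduct (Submonoid.powers s) M).symm
  exact V_of_algebra (Localization.Away s) n M
    (fun m hm _ => V_comm (V_flat_left m hm _ _)) hfl' _ n hn le_rfl

theorem step {r : ℕ} (f : Fin r → A) (M : Type u) [AddCommGroup M] [Module A M]
    (h1 : ∀ i, Module.Flat (Localization.Away (f i)) (LocalizedModule (Submonoid.powers (f i)) M))
    (j : ℕ) (hj : j < r)
    (ih : ∀ (N : Type u) [AddCommGroup N] [Module A N],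
      (∀ i : Fin r, i.val < j + 1 → ∀ x : N, ∃ m : ℕ, f i ^ m • x = 0) →
      ∀ n, 1 ≤ n → n ≤ j + 2 → V A n M N)
    (N : Type u) [AddCommGroup N] [Module A N]
    (hN : ∀ i : Fin r, i.val < j → ∀ x : N, ∃ m : ℕ, f i ^ m • x = 0)
    (n : ℕ) (hn : 1 ≤ n) (hnj : n ≤ j + 1) : V A n M N := by
  let g : A := f ⟨j, hj⟩
  let φ : N →ₗ[A] LocalizedModule (Submonoid.powers g) N :=
    LocalizedModule.mkLinearMap (Submonoid.powers g) N
  have hloc := V_localization g M (h1 ⟨j, hj⟩) N
  have hker : V A n M (LinearMap.ker φ) := by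
    refine ih _ ?_ n hn (by omega)
    intro i hi x
    rcases Nat.lt_succ_iff_lt_or_eq.1 hi with hi | hi
    · obtain ⟨m, hm⟩ := hN i hi x
      exact ⟨m, Subtype.ext hm⟩
    · have hx : φ x.1 = 0 := x.2
      obtain ⟨⟨_, m, rfl⟩, hc⟩ :=
        (IsLocalizedModule.eq_zero_iff (Submonoid.powers g) φ).1 hx
      refine ⟨m, Subtype.ext ?_⟩
      have : f i = g := by
        congr 1
        exact Fin.ext hi
      rw [this]
      exact hc
  have hcoker : ∀ n, 1 ≤ n → n ≤ j + 2 →
      V A n M (LocalizedModule (Submonoid.powers g) N ⧸ LinearMap.range φ) := by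
    refine ih _ ?_
    intro i hi x
    obtain ⟨x, rfl⟩ := (LinearMap.range φ).mkQ_surjective x
    obtain ⟨⟨y, ⟨_, m, rfl⟩⟩, hy⟩ := IsLocalizedModule.surj (Submonoid.powers g) φ x
    change g ^ m • x = φ y at hy
    rcases Nat.lt_succ_iff_lt_or_eq.1 hi with hi | hi
    · obtain ⟨l, hl⟩ := hN i hi y
      refine ⟨l, ?_⟩
      have h2 : f i ^ l • x = 0 := by
        have h3 : g ^ m • (f i ^ l • x) = 0 := by
          rw [smul_comm, hy, ← map_smul, hl, map_zero]
        have h4 := (IsLocalizedModule.smul_inj φ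
          (⟨g ^ m, m, rfl⟩ : Submonoid.powers g) (f i ^ l • x) 0).1
        apply h4
        rw [smul_zero]
        exact h3
      rw [← map_smul, h2, map_zero]
    · refine ⟨m, ?_⟩
      have : f i = g := by
        congr 1
        exact Fin.ext hi
      rw [this, ← map_smul, hy, Submodule.mkQ_apply, Submodule.Quotient.mk_eq_zero]
      exact ⟨y, rfl⟩
  have hrange : V A n M (LinearMap.range φ) :=
    left_right (LinearMap.range φ).subtype (LinearMap.range φ).mkQ
      (LinearMap.range φ).subtype_injective (LinearMap.exact_subtype_mkQ _)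
      (LinearMap.range φ).mkQ_surjective (hcoker (n + 1) (by omega) (by omega)) (hloc n hn)
  refine mid_right (LinearMap.ker φ).subtype φ.rangeRestrict (LinearMap.ker φ).subtype_injective
    ?_ φ.surjective_rangeRestrict hker hrange
  intro x
  rw [← LinearMap.mem_ker, LinearMap.ker_rangeRestrict]
  constructor
  · intro hx
    exact ⟨⟨x, hx⟩, rfl⟩
  · rintro ⟨y, rfl⟩
    exact y.2

theorem flat (M : Type u) [AddCommGroup M] [Module A M] {r : ℕ} (f : Fin r → A)
    (h1 : ∀ i, Module.Flat (Localization.Away (f i)) (LocalizedModule (Submonoid.powers (f i)) M))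
    (h2 : Module.Flat (A ⧸ Ideal.span (Set.range f)) ((A ⧸ Ideal.span (Set.range f)) ⊗[A] M))
    (h3 : ∀ i : ℕ, 1 ≤ i → i ≤ r + 1 → V A i M (A ⧸ Ideal.span (Set.range f))) :
    Module.Flat A M := by
  let I := Ideal.span (Set.range f)
  have hA : ∀ (N : Type u) [AddCommGroup N] [Module A N], (∀ a ∈ I, ∀ x : N, a • x = 0) →
      ∀ n, 1 ≤ n → n ≤ r + 1 → V A n M N := by
    intro N _ _ hN
    have ht : Module.IsTorsionBySet A N (I : Set A) := fun x a => hN a.1 a.2 x
    let _ : Module (A ⧸ I) N := ht.module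
    have _ : IsScalarTower A (A ⧸ I) N := ht.isScalarTower
    exact V_of_algebra (A ⧸ I) (r + 1) M h3 h2 N
  have hfg : I.FG := ⟨(Set.finite_range f).toFinset, by simp [I]⟩
  have key : ∀ d : ℕ, ∀ j : ℕ, j + d = r → ∀ (N : Type u) [AddCommGroup N] [Module A N],
      (∀ i : Fin r, i.val < j → ∀ x : N, ∃ m : ℕ, f i ^ m • x = 0) →
      ∀ n, 1 ≤ n → n ≤ j + 1 → V A n M N := by
    intro d
    induction d with
    | zero =>
      rintro j rfl N _ _ hN
      refine V_torsion I (j + 1) M (fun m => V_pow I (j + 1) M hA m) N ?_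
      intro x
      have h4 : I ≤ (Ideal.torsionOf A N x).radical := by
        rw [Ideal.span_le]
        rintro _ ⟨i, rfl⟩
        obtain ⟨m, hm⟩ := hN i i.2 x
        exact ⟨m, by rw [Ideal.mem_torsionOf_iff]; exact hm⟩
      obtain ⟨m, hm⟩ := Ideal.exists_pow_le_of_le_radical_of_fg h4 hfg
      exact ⟨m, fun a ha => (Ideal.mem_torsionOf_iff x a).1 (hm ha)⟩
    | succ d ih =>
      intro j hj N _ _ hN n hn hnj
      exact step f M h1 j (by omega) (fun N _ _ => ih (j + 1) (by omega) N) N hN n hn hnj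
  exact flat_of_V M (fun N _ _ => key r 0 (by omega) N (fun i hi => absurd hi (by omega)) 1 le_rfl
    (by omega))

end K62.FlatCrit
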