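import Groth.Agent.CAlg.K62.Dom
import Groth.Agent.CalgA.ML6
import Mathlib.Algebra.Colimit.Module

/-!
# Characterizations of Mittag-Leffler modules

* `isMittagLeffler_of_forall_free`, `exists_dominate`: the domination criterion.
* `exists_lift_stage`, `exists_stage_eq`: maps from finitely presented modules to direct limits.
* `isMittagLeffler_directLimit_iff`.
-/

set_option autoImplicit false
universe u v w x

open TensorProduct

namespace K62.MLChar

open Groth.Agent.CalgA.ML1 Groth.Agent.CalgA.ML2 Groth.Agent.CalgA.ML4 Groth.Agent.CalgA.ML5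
  Groth.Agent.CalgA.ML6

section

variable {R : Type u} [CommRing R] {M : Type u} [AddCommGroup M] [Module R M]

/-- A Mittag-Leffler module has the domination property. -/
theorem exists_dominate (hM : CAlg.IsMittagLeffler R M) {P : Type u} [AddCommGroup P] [Module R P]
    [Module.FinitePresentation R P] (f : P →ₗ[R] M) :
    ∃ (Q : Type u) (_ : AddCommGroup Q) (_ : Module R Q) (_ : Module.FinitePresentation R Q)
      (g : P →ₗ[R] Q), ∀ (N : Type u) [AddCommGroup N] [Module R N],
        LinearMap.ker (f.rTensor N) = LinearMap.ker (g.rTensor N) := by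
  obtain ⟨Q, i1, i2, g, h, hfp, hcomp, hdom⟩ := exists_dominating hM f
  refine ⟨Q, i1, i2, hfp, g, ?_⟩
  intro N _ _
  apply le_antisymm
  · intro x hx
    exact hdom N x hx
  · rw [← hcomp]
    exact K62.Dom.dominates_of_factor g h N

/-- The domination property for finite free modules implies Mittag-Leffler. -/
theorem isMittagLeffler_of_forall_free
    (H : ∀ (n : ℕ) (f : (Fin n → R) →ₗ[R] M),
        ∃ (Q : Type u) (_ : AddCommGroup Q) (_ : Module R Q) (_ : Module.FinitePresentation R Q)
          (g : (Fin n → R) →ₗ[R] Q),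
          ∀ (N : Type u) [AddCommGroup N] [Module R N],
            LinearMap.ker (f.rTensor N) = LinearMap.ker (g.rTensor N)) :
    CAlg.IsMittagLeffler R M := by
  classical
  intro ι Q _ _
  rw [injective_iff_map_eq_zero]
  intro z hz
  obtain ⟨n, m, q, rfl⟩ := TensorProduct.exists_sum_tmul_eq z
  set f : (Fin n → R) →ₗ[R] M := Fintype.linearCombination R m with hf
  set zP : (Fin n → R) ⊗[R] (∀ i, Q i) := ∑ k, Pi.single k 1 ⊗ₜ[R] q k with hzP
  have hfz : f.rTensor _ zP = ∑ k, m k ⊗ₜ[R] q k := by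
    simp [hf, hzP, map_sum]
  obtain ⟨P', _, _, _, g, hg⟩ := H n f
  have h1 : g.rTensor _ zP = 0 := by
    apply piRightHom_injective_of_fp P' Q
    rw [map_zero]
    ext i
    have h2 := congrFun (piRightHom_rTensor g Q zP) i
    rw [h2]
    change _ ∈ LinearMap.ker (g.rTensor (Q i))
    rw [← hg, LinearMap.mem_ker]
    have h3 := congrFun (piRightHom_rTensor f Q zP) i
    rw [← h3, hfz, hz]
    rfl
  have h4 : zP ∈ LinearMap.ker (g.rTensor (∀ i, Q i)) := h1
  rw [← hg, LinearMap.mem_ker, hfz] at h4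
  exact h4

/-- For finite `P`, endomorphisms of a countably generated Mittag-Leffler module fixing `f`. -/
theorem exists_endo_finite (hM : CAlg.IsMittagLeffler R M) (hc : CAlg.IsCountablyGenerated R M)
    {P : Type u} [AddCommGroup P] [Module R P] [Module.Finite R P] (f : P →ₗ[R] M) :
    ∃ (Q : Type u) (_ : AddCommGroup Q) (_ : Module R Q) (_ : Module.FinitePresentation R Q)
      (b : M →ₗ[R] Q) (c : Q →ₗ[R] M), (c ∘ₗ b) ∘ₗ f = f := by
  obtain ⟨n, π, hπ⟩ := Module.Finite.exists_fin' R P
  obtain ⟨Q, i1, i2, hfp, b, c, h⟩ := exists_endo hM hc (f ∘ₗ π)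
  refine ⟨Q, i1, i2, hfp, b, c, ?_⟩
  ext p
  obtain ⟨x, rfl⟩ := hπ p
  exact LinearMap.congr_fun h x

end

section

variable {R : Type u} [CommRing R] {ι : Type v}
    [Preorder ι] [IsDirected ι (· ≤ ·)] [Nonempty ι] [DecidableEq ι] (G : ι → Type w)
    [∀ i, AddCommGroup (G i)] [∀ i, Module R (G i)]
    (f : ∀ i j, i ≤ j → G i →ₗ[R] G j) [DirectedSystem G fun i j h => f i j h]

omit [IsDirected ι (· ≤ ·)] [Nonempty ι] [DirectedSystem G fun i j h => f i j h] in
theorem of_comp {i j : ι} (hij : i ≤ j) :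
    Module.DirectLimit.of R ι G f j ∘ₗ f i j hij = Module.DirectLimit.of R ι G f i := by
  ext x
  exact Module.DirectLimit.of_f

omit [IsDirected ι (· ≤ ·)] [Nonempty ι] [DecidableEq ι] in
theorem f_comp {i j k : ι} (hij : i ≤ j) (hjk : j ≤ k) :
    f j k hjk ∘ₗ f i j hij = f i k (hij.trans hjk) := by
  ext x
  exact DirectedSystem.map_map' (f := fun i j h => f i j h) hij hjk x

/-- Finitely many elements of a stage dying in the limit die at a later stage. -/
theorem exists_stage_zero {κ : Type*} [Finite κ] {i : ι} (x : κ → G i)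
    (hx : ∀ c, Module.DirectLimit.of R ι G f i (x c) = 0) :
    ∃ (j : ι) (hij : i ≤ j), ∀ c, f i j hij (x c) = 0 := by
  choose j hij hj using fun c => Module.DirectLimit.of.zero_exact (hx c)
  obtain ⟨k, hk⟩ := Finite.exists_le j
  obtain ⟨l, hil, hkl⟩ := exists_ge_ge i k
  refine ⟨l, hil, fun c => ?_⟩
  have : f i l hil = f (j c) l ((hk c).trans hkl) ∘ₗ f i (j c) (hij c) := by
    rw [f_comp]
  rw [this, LinearMap.comp_apply, hj, map_zero]

/-- Two maps from a finite module to a stage which agree in the limit agree at a later stage. -/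
theorem exists_stage_eq {P : Type x} [AddCommGroup P] [Module R P] [Module.Finite R P] {i : ι}
    (a b : P →ₗ[R] G i)
    (h : Module.DirectLimit.of R ι G f i ∘ₗ a = Module.DirectLimit.of R ι G f i ∘ₗ b) :
    ∃ (j : ι) (hij : i ≤ j), f i j hij ∘ₗ a = f i j hij ∘ₗ b := by
  obtain ⟨n, p, hp⟩ := Module.Finite.exists_fin (R := R) (M := P)
  obtain ⟨j, hij, hj⟩ := exists_stage_zero G f (fun c : Fin n => a (p c) - b (p c)) (fun c => by
    have := LinearMap.congr_fun h (p c)
    simp only [LinearMap.comp_apply] at this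
    rw [map_sub, this, sub_self])
  refine ⟨j, hij, LinearMap.ext_on_range hp (fun c => ?_)⟩
  have := hj c
  rw [map_sub, sub_eq_zero] at this
  exact this

omit [DirectedSystem G fun i j h => f i j h] in
/-- Maps from finite free modules to a direct limit lift to a stage. -/
theorem exists_lift_free {n : ℕ} (h : (Fin n → R) →ₗ[R] Module.DirectLimit G f) :
    ∃ (k : ι) (h' : (Fin n → R) →ₗ[R] G k), Module.DirectLimit.of R ι G f k ∘ₗ h' = h := by
  choose i y hy using fun c : Fin n => Module.DirectLimit.exists_of (h (Pi.single c 1))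
  obtain ⟨k, hk⟩ := Finite.exists_le i
  refine ⟨k, Fintype.linearCombination R (fun c => f (i c) k (hk c) (y c)), ?_⟩
  refine LinearMap.pi_ext' (fun c => LinearMap.ext_ring ?_)
  simp [← hy]

/-- Maps from finitely presented modules to a direct limit lift to a stage. -/
theorem exists_lift_stage {Q : Type x} [AddCommGroup Q] [Module R Q]
    [Module.FinitePresentation R Q] (h : Q →ₗ[R] Module.DirectLimit G f) (i₀ : ι) :
    ∃ (k : ι) (_ : i₀ ≤ k) (h' : Q →ₗ[R] G k), Module.DirectLimit.of R ι G f k ∘ₗ h' = h := by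
  obtain ⟨n, π, hπ⟩ := Module.Finite.exists_fin' R Q
  have hK : (LinearMap.ker π).FG := Module.FinitePresentation.fg_ker π hπ
  obtain ⟨t, a, ha⟩ := Submodule.fg_iff_exists_fin_generating_family.mp hK
  obtain ⟨k, u, hu⟩ := exists_lift_free G f (h ∘ₗ π)
  obtain ⟨j, hkj, hj⟩ := exists_stage_zero G f (fun c : Fin t => u (a c)) (fun c => by
    have h1 := LinearMap.congr_fun hu (a c)
    simp only [LinearMap.comp_apply] at h1
    rw [h1]
    have : a c ∈ LinearMap.ker π := ha ▸ Submodule.subset_span ⟨c, rfl⟩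
    rw [LinearMap.mem_ker.mp this, map_zero])
  obtain ⟨l, hil, hjl⟩ := exists_ge_ge i₀ j
  have hker : LinearMap.ker π ≤ LinearMap.ker (f k l (hkj.trans hjl) ∘ₗ u) := by
    rw [← ha, Submodule.span_le]
    rintro _ ⟨c, rfl⟩
    have h2 := hj c
    change (f k l (hkj.trans hjl)) (u (a c)) = 0
    rw [← f_comp G f hkj hjl, LinearMap.comp_apply, h2, map_zero]
  refine ⟨l, hil, (LinearMap.ker π).liftQ _ hker ∘ₗ
    (π.quotKerEquivOfSurjective hπ).symm.toLinearMap, ?_⟩
  ext y
  obtain ⟨x, rfl⟩ := hπ y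
  have : (π.quotKerEquivOfSurjective hπ).symm (π x) = (LinearMap.ker π).mkQ x := by
    rw [LinearEquiv.symm_apply_eq]
    rfl
  have h3 := LinearMap.congr_fun hu x
  simp only [LinearMap.comp_apply] at h3
  simp [this, ← h3]

end

/-- Direct limits of finitely presented modules and the Mittag-Leffler condition. -/
theorem isMittagLeffler_directLimit_iff (R : Type u) [CommRing R] {ι : Type u}
    [Preorder ι] [IsDirected ι (· ≤ ·)] [Nonempty ι] [DecidableEq ι] (G : ι → Type u)
    [∀ i, AddCommGroup (G i)] [∀ i, Module R (G i)] [∀ i, Module.FinitePresentation R (G i)]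
    (f : ∀ i j, i ≤ j → G i →ₗ[R] G j) [DirectedSystem G fun i j h => f i j h] :
    CAlg.IsMittagLeffler R (Module.DirectLimit G f) ↔
      ∀ i, ∃ (j : ι) (hij : i ≤ j), ∀ (k : ι) (hik : i ≤ k),
        ∃ h : G k →ₗ[R] G j, f i j hij = h ∘ₗ f i k hik := by
  constructor
  · intro hML i
    obtain ⟨Q, _, _, g, h, hfp, hcomp, hdom⟩ :=
      exists_dominating hML (Module.DirectLimit.of R ι G f i)
    obtain ⟨k₀, hik₀, h', hh'⟩ := exists_lift_stage G f h i
    obtain ⟨j, hkj, hj⟩ := exists_stage_eq G f (h' ∘ₗ g) (f i k₀ hik₀) (by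
      rw [← LinearMap.comp_assoc, hh', hcomp, of_comp])
    rw [f_comp] at hj
    refine ⟨j, hik₀.trans hkj, fun k hik => ?_⟩
    obtain ⟨φ, hφ⟩ := exists_factor (f i k hik) (f i j (hik₀.trans hkj)) (by
      intro N _ _ x hx
      have h1 : (Module.DirectLimit.of R ι G f i).rTensor N x = 0 := by
        rw [← of_comp G f hik, LinearMap.rTensor_comp, LinearMap.comp_apply, hx, map_zero]
      have h2 := hdom N x h1
      rw [← hj, ← LinearMap.comp_assoc, LinearMap.rTensor_comp, LinearMap.comp_apply, h2,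
        map_zero])
    exact ⟨φ, hφ.symm⟩
  · intro H
    apply isMittagLeffler_of_forall_free
    intro n u
    obtain ⟨i, u', hu'⟩ := exists_lift_free G f u
    obtain ⟨j, hij, hj⟩ := H i
    refine ⟨G j, inferInstance, inferInstance, inferInstance, f i j hij ∘ₗ u', ?_⟩
    intro N _ _
    apply le_antisymm
    · intro x hx
      rw [LinearMap.mem_ker] at hx ⊢
      rw [← hu', LinearMap.rTensor_comp, LinearMap.comp_apply] at hx
      obtain ⟨P', _, _, g, h, hfp, hcomp, hg⟩ := exists_fp_of_rTensor_eq_zero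
        (Module.DirectLimit.of R ι G f i) _ hx
      obtain ⟨k, hik, h', hh'⟩ := exists_lift_stage G f h i
      obtain ⟨l, hkl, hl⟩ := exists_stage_eq G f (h' ∘ₗ g) (f i k hik) (by
        rw [← LinearMap.comp_assoc, hh', hcomp, of_comp])
      rw [f_comp] at hl
      obtain ⟨ψ, hψ⟩ := hj l (hik.trans hkl)
      rw [LinearMap.rTensor_comp, LinearMap.comp_apply, hψ, ← hl, ← LinearMap.comp_assoc,
        ← LinearMap.comp_assoc, LinearMap.rTensor_comp, LinearMap.comp_apply, hg, map_zero]
    · rw [← hu', ← of_comp G f hij, LinearMap.comp_assoc]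
      exact K62.Dom.dominates_of_factor _ _ N

end K62.MLChar
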