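import Mathlib.RingTheory.Ideal.Pure
import Mathlib.RingTheory.Spectrum.Prime.Topology
import Mathlib.RingTheory.Flat.EquationalCriterion
import Mathlib.RingTheory.Flat.Localization
import Mathlib.RingTheory.LocalProperties.FinitePresentation
import Mathlib.Algebra.Module.Projective
import Groth.Agent.Ega3A.FiberRank

/-!
# Pure ideals and generalization-stable closed subsets
-/

set_option autoImplicit false
universe u v

open PrimeSpectrum

namespace K62.Pure

variable {R : Type u} [CommRing R]

theorem stableUnderGeneralization_of_pure (I : Ideal R) [I.Pure] :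
    StableUnderGeneralization (zeroLocus (I : Set R)) := by
  intro p q h hp
  have hqp : q ≤ p := (PrimeSpectrum.le_iff_specializes q p).2 h
  intro x hx
  obtain ⟨y, hy, hxy⟩ := Ideal.exists_eq_mul_of_pure hx
  have h1 : x * (1 - y) = 0 := by rw [mul_sub, ← hxy, mul_one, sub_self]
  have h2 : x * (1 - y) ∈ q.asIdeal := h1 ▸ Ideal.zero_mem _
  rcases q.2.mem_or_mem h2 with h3 | h3
  · exact h3
  · exfalso
    apply p.2.ne_top
    rw [Ideal.eq_top_iff_one]
    have h4 : y ∈ p.asIdeal := hp hy
    have := Ideal.add_mem _ (hqp h3) h4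
    simpa using this

/-- The multiplicative set `1 + J`. -/
def oneAdd (J : Ideal R) : Submonoid R where
  carrier := {s | s - 1 ∈ J}
  one_mem' := by simp
  mul_mem' := by
    intro a b ha hb
    have : a * b - 1 = a * (b - 1) + (a - 1) := by ring
    change a * b - 1 ∈ J
    rw [this]
    exact J.add_mem (J.mul_mem_left _ hb) ha

/-- The ring `(1+J)⁻¹ R` for `V(J)` stable under generalization: `R → (1+J)⁻¹R` is surjective. -/
theorem exists_pure (Z : Set (PrimeSpectrum R)) (hZ : IsClosed Z)
    (hZ' : StableUnderGeneralization Z) :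
    ∃ I : Ideal R, I.Pure ∧ zeroLocus (I : Set R) = Z := by
  obtain ⟨J, rfl⟩ := (PrimeSpectrum.isClosed_iff_zeroLocus_ideal Z).1 hZ
  let L := Localization (oneAdd J)
  -- the range of `Spec L → Spec R` is `V(J)`
  have hrange : Set.range (PrimeSpectrum.comap (algebraMap R L)) = zeroLocus (J : Set R) := by
    rw [PrimeSpectrum.localization_comap_range L (oneAdd J)]
    ext p
    rw [Set.mem_ofPred_eq]
    constructor
    · intro hp
      have h1 : p.asIdeal ⊔ J ≠ ⊤ := by
        intro h
        obtain ⟨a, ha, b, hb, hab⟩ := Submodule.mem_sup.1 (h ▸ Submodule.mem_top : (1 : R) ∈ p.asIdeal ⊔ J)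
        refine Set.disjoint_left.1 hp (?_ : a ∈ _) ha
        change a - 1 ∈ J
        have : a - 1 = -b := by rw [← hab]; ring
        rw [this]
        exact J.neg_mem hb
      obtain ⟨m, hm, hle⟩ := Ideal.exists_le_maximal _ h1
      have hmZ : (⟨m, hm.isPrime⟩ : PrimeSpectrum R) ∈ zeroLocus (J : Set R) :=
        (le_sup_right.trans hle : J ≤ m)
      refine hZ' ?_ hmZ
      rw [← PrimeSpectrum.le_iff_specializes]
      exact (le_sup_left.trans hle : p.asIdeal ≤ m)
    · intro hp
      rw [Set.disjoint_left]
      intro s hs hsp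
      apply p.2.ne_top
      rw [Ideal.eq_top_iff_one]
      have h2 : s - 1 ∈ p.asIdeal := hp hs
      have := p.asIdeal.sub_mem hsp h2
      simpa using this
  -- elements of `J` are nilpotent in `L`
  have hnil : ∀ x ∈ J, IsNilpotent (algebraMap R L x) := by
    intro x hx
    rw [nilpotent_iff_mem_prime]
    intro P hP
    have h3 : PrimeSpectrum.comap (algebraMap R L) ⟨P, hP⟩ ∈ zeroLocus (J : Set R) := by
      rw [← hrange]; exact ⟨_, rfl⟩
    exact h3 hx
  have hsurj : Function.Surjective (algebraMap R L) := by
    intro z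
    obtain ⟨r, ⟨s, hs⟩, rfl⟩ := IsLocalization.exists_mk'_eq (oneAdd J) z
    obtain ⟨n, hn⟩ := hnil (s - 1) hs
    -- the inverse of `s` modulo the nilpotent
    have h1 : algebraMap R L s * algebraMap R L (∑ i ∈ Finset.range n, (1 - s) ^ i) = 1 := by
      have h2 : (∑ i ∈ Finset.range n, (1 - s) ^ i) * ((1 - s) - 1) = (1 - s) ^ n - 1 :=
        geom_sum_mul _ _
      have h3 : s * (∑ i ∈ Finset.range n, (1 - s) ^ i) = 1 - (1 - s) ^ n := by
        linear_combination -h2
      rw [← map_mul, h3, map_sub, map_one]
      have h4 : algebraMap R L ((1 - s) ^ n) = 0 := by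
        have : (1 - s : R) = (-1) * (s - 1) := by ring
        rw [this, mul_pow, map_mul, map_pow (algebraMap R L) (s - 1) n, hn, mul_zero]
      rw [h4, sub_zero]
    refine ⟨r * ∑ i ∈ Finset.range n, (1 - s) ^ i, ?_⟩
    symm
    rw [IsLocalization.mk'_eq_iff_eq_mul, map_mul, mul_assoc, mul_comm (algebraMap R L _)
      (algebraMap R L _), h1, mul_one]
  refine ⟨RingHom.ker (algebraMap R L), ?_, ?_⟩
  · have hfl : Module.Flat R L := IsLocalization.flat L (oneAdd J)
    let e : (R ⧸ RingHom.ker (algebraMap R L)) ≃ₐ[R] L :=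
      Ideal.quotientKerAlgEquivOfSurjective (f := Algebra.ofId R L) hsurj
    exact Module.Flat.of_linearEquiv e.toLinearEquiv
  · rw [← range_comap_of_surjective L (algebraMap R L) hsurj, hrange]

theorem tfae (I : Ideal R) :
    List.TFAE [I.Pure ∧ I.FG, ∃ e : R, IsIdempotentElem e ∧ I = Ideal.span {e},
      I.Pure ∧ IsOpen (zeroLocus (I : Set R)), Module.Projective R (R ⧸ I)] := by
  tfae_have 1 → 2 := by
    rintro ⟨h1, h2⟩
    exact (Ideal.isIdempotentElem_iff_of_fg I h2).1 I.isIdempotentElem_of_pure
  tfae_have 2 → 4 := by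
    rintro ⟨e, he, h0⟩
    rw [h0]
    -- section `x ↦ (1 - e) x`
    let s : (R ⧸ Ideal.span {e}) →ₗ[R] R :=
      Submodule.liftQ _ (LinearMap.mulLeft R (1 - e)) (by
        rw [Submodule.span_le]
        intro x hx
        obtain rfl : x = e := hx
        change (1 - x) * x = 0
        rw [sub_mul, one_mul, he.eq, sub_self])
    refine Module.Projective.of_split s (Submodule.mkQ _) ?_
    ext
    change (Ideal.Quotient.mk (Ideal.span {e})) ((1 - e) * 1) = Ideal.Quotient.mk _ 1
    rw [Ideal.Quotient.eq]
    have : (1 - e) * 1 - 1 = -e := by ring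
    rw [this]
    exact (Ideal.span {e}).neg_mem (Ideal.mem_span_singleton_self e)
  tfae_have 4 → 1 := by
    intro h
    refine ⟨inferInstanceAs (Module.Flat R (R ⧸ I)), ?_⟩
    have : Module.FinitePresentation R (R ⧸ I) := Module.finitePresentation_of_projective _ _
    have h1 := Module.FinitePresentation.fg_ker (Submodule.mkQ I) (Submodule.mkQ_surjective I)
    rwa [Submodule.ker_mkQ] at h1
  tfae_have 2 → 3 := by
    rintro ⟨e, he, rfl⟩
    refine ⟨Ideal.Pure.of_isIdempotentElem ⟨{e}, by simp⟩ ?_, ?_⟩
    · rw [Ideal.isIdempotentElem_iff_of_fg _ ⟨{e}, by simp⟩]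
      exact ⟨e, he, rfl⟩
    · rw [PrimeSpectrum.zeroLocus_span]
      exact ((PrimeSpectrum.isClopen_iff_zeroLocus).2 ⟨e, he, rfl⟩).isOpen
  tfae_have 3 → 2 := by
    rintro ⟨h1, h2⟩
    obtain ⟨e, he, h3⟩ := (PrimeSpectrum.isClopen_iff_zeroLocus).1
      ⟨PrimeSpectrum.isClosed_zeroLocus (I : Set R), h2⟩
    refine ⟨e, he, ?_⟩
    have : (Ideal.span {e}).Pure := Ideal.Pure.of_isIdempotentElem ⟨{e}, by simp⟩ (by
      rw [Ideal.isIdempotentElem_iff_of_fg _ ⟨{e}, by simp⟩]
      exact ⟨e, he, rfl⟩)
    rw [← Ideal.zeroLocus_inj_of_pure, h3, PrimeSpectrum.zeroLocus_span]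
  tfae_finish

/-- A finite flat module of constant rank is finitely presented. -/
theorem fp_of_rank_const (M : Type*) [AddCommGroup M] [Module R M] [Module.Finite R M]
    [Module.Flat R M] (n : ℕ) (h : ∀ p : PrimeSpectrum R, Module.rankAtStalk M p = n) :
    Module.FinitePresentation R M := by
  let s : Set R := {a | Module.FinitePresentation (Localization.Away a) (LocalizedModule.Away a M)}
  refine Module.FinitePresentation.of_localizationSpan s ?_ (fun g => g.2)
  by_contra hne
  obtain ⟨m, hm, hle⟩ := Ideal.exists_le_maximal _ hne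
  obtain ⟨a, ha, hfree⟩ := Module.Free.away_of_finite_of_flat_of_rankAtStalk_constant M m
    (fun m' _ => by rw [h, h])
  refine ha (hle (Ideal.subset_span ?_))
  change Module.FinitePresentation _ _
  have : Module.Finite (Localization.Away a) (LocalizedModule.Away a M) :=
    Module.Finite.of_isLocalizedModule (Submonoid.powers a)
      (LocalizedModule.mkLinearMap (Submonoid.powers a) M)
  exact Module.finitePresentation_of_projective _ _

/-- A finite flat module with locally constant rank is projective. -/
theorem projective_of_isLocallyConstant (M : Type*) [AddCommGroup M] [Module R M]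
    [Module.Finite R M] [Module.Flat R M]
    (h : ∀ n : ℕ, IsOpen {p : PrimeSpectrum R | Module.rankAtStalk M p = n}) :
    Module.Projective R M := by
  have : Module.FinitePresentation R M := by
    let s : Set R :=
      {a | Module.FinitePresentation (Localization.Away a) (LocalizedModule.Away a M)}
    refine Module.FinitePresentation.of_localizationSpan s ?_ (fun g => g.2)
    by_contra hne
    obtain ⟨m, hm, hle⟩ := Ideal.exists_le_maximal _ hne
    let x : PrimeSpectrum R := ⟨m, hm.isPrime⟩
    obtain ⟨_, ⟨a, rfl⟩, hxa, hsub⟩ := (PrimeSpectrum.isTopologicalBasis_basic_opens).exists_subset_of_mem_open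
      (show x ∈ {p : PrimeSpectrum R | Module.rankAtStalk M p = Module.rankAtStalk M x} from rfl)
      (h _)
    refine hxa (hle (Ideal.subset_span ?_))
    change Module.FinitePresentation _ _
    have hf : Module.Finite (Localization.Away a) (LocalizedModule.Away a M) :=
      Module.Finite.of_isLocalizedModule (Submonoid.powers a)
        (LocalizedModule.mkLinearMap (Submonoid.powers a) M)
    refine fp_of_rank_const (R := Localization.Away a) (LocalizedModule.Away a M)
      (Module.rankAtStalk M x) (fun p => ?_)
    rw [Module.rankAtStalk_isBaseChange (LocalizedModule.isBaseChange (Submonoid.powers a) _)]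
    apply hsub
    have h1 : PrimeSpectrum.comap (algebraMap R (Localization.Away a)) p ∈
        Set.range (PrimeSpectrum.comap (algebraMap R (Localization.Away a))) := ⟨p, rfl⟩
    rwa [PrimeSpectrum.localization_away_comap_range (Localization.Away a) a] at h1
  exact Module.Flat.projective_of_finitePresentation

open Groth.Agent.Ega3A.FiberRank in
theorem projective_of_finite_flat
    (h : ∀ Z : Set (PrimeSpectrum R), IsClosed Z → StableUnderGeneralization Z → IsOpen Z)
    (M : Type*) [AddCommGroup M] [Module R M] [Module.Finite R M] [Module.Flat R M] :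
    Module.Projective R M := by
  apply projective_of_isLocallyConstant
  intro n
  have hle : ∀ k : ℕ, IsOpen {p : PrimeSpectrum R | Module.rankAtStalk M p ≤ k} := by
    intro k
    have := isOpen_fiberRank_le (R := R) (M := M) k
    simpa only [fiberRank_eq_rankAtStalk] using this
  have hge : IsOpen {p : PrimeSpectrum R | n ≤ Module.rankAtStalk M p} := by
    apply h
    · rcases n with _ | n
      · simp
      · have h1 : {p : PrimeSpectrum R | n + 1 ≤ Module.rankAtStalk M p} =
            {p : PrimeSpectrum R | Module.rankAtStalk M p ≤ n}ᶜ := by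
          ext p
          simp
        rw [h1]
        exact (hle n).isClosed_compl
    · intro p q hqp hp
      have h2 : q ≤ p := (PrimeSpectrum.le_iff_specializes q p).2 hqp
      rw [Set.mem_ofPred_eq] at hp ⊢
      rwa [Module.rankAtStalk_eq_of_le_of_finite_of_flat M h2]
  have : {p : PrimeSpectrum R | Module.rankAtStalk M p = n} =
      {p | Module.rankAtStalk M p ≤ n} ∩ {p | n ≤ Module.rankAtStalk M p} := by
    ext p
    simp [le_antisymm_iff]
  rw [this]
  exact (hle n).inter hge

end K62.Pure
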