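import Groth.Agent.CycA.TorShift
import Mathlib.RingTheory.Flat.Basic
import Mathlib.RingTheory.Flat.Stability
import Mathlib.RingTheory.FiniteLength
import Mathlib.RingTheory.LocalRing.ResidueField.Basic

/-!
# Vanishing of Tor: formal rules

`V n M N`: `Tor_n(M, N) = 0`.
* `mid_left`, `left_left`, `right_left`, `mid_right`, `left_right`, `right_right` : long exact
  sequences;
* `V_one_iff`, `V_succ_iff` : dimension shifting;
* `V_of_algebra` : (truncated) change of rings;
* `flat_of_V` : flatness from `Tor_1`.
-/

set_option autoImplicit false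
universe u

open TensorProduct Groth.Agent.CycA.TorBasic Groth.Agent.CycA.TorShift

namespace K62.TorVan

variable {A : Type u} [CommRing A]

variable (A) in
/-- `Tor_n(M, N) = 0`. -/
abbrev V (n : ℕ) (M N : Type u) [AddCommGroup M] [Module A M] [AddCommGroup N] [Module A N] :
    Prop := Subsingleton (DRing.Tor A n M N)

theorem V_comm {n : ℕ} {M N : Type u} [AddCommGroup M] [Module A M] [AddCommGroup N] [Module A N]
    (h : V A n M N) : V A n N M := by
  obtain ⟨e⟩ := comm (A := A) n N M
  exact e.toEquiv.subsingleton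

theorem V_congr_left {n : ℕ} {M M' N : Type u} [AddCommGroup M] [Module A M] [AddCommGroup M']
    [Module A M'] [AddCommGroup N] [Module A N] (e : M ≃ₗ[A] M') (h : V A n M N) : V A n M' N := by
  refine ⟨fun x y => ?_⟩
  have key : ∀ z : DRing.Tor A n M' N, z = mapL e.toLinearMap n N (mapL e.symm.toLinearMap n N z) := by
    intro z
    rw [← LinearMap.comp_apply, ← mapL_comp]
    have : e.toLinearMap ∘ₗ e.symm.toLinearMap = LinearMap.id := by
      ext x
      simp
    rw [this, mapL_id]
    rfl
  rw [key x, key y, Subsingleton.elim (mapL e.symm.toLinearMap n N x)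
    (mapL e.symm.toLinearMap n N y)]

theorem V_congr_right {n : ℕ} {M M' N : Type u} [AddCommGroup M] [Module A M] [AddCommGroup M']
    [Module A M'] [AddCommGroup N] [Module A N] (e : M ≃ₗ[A] M') (h : V A n N M) : V A n N M' :=
  V_comm (V_congr_left e (V_comm h))

theorem V_flat_left (n : ℕ) (hn : 1 ≤ n) (M N : Type u) [AddCommGroup M] [Module A M]
    [AddCommGroup N] [Module A N] [Module.Flat A M] : V A n M N := by
  obtain ⟨n, rfl⟩ := Nat.exists_eq_add_of_le' hn
  exact subsingleton_of_flat_left A n M N

section les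

variable {M₁ M₂ M₃ : Type u} [AddCommGroup M₁] [Module A M₁] [AddCommGroup M₂] [Module A M₂]
  [AddCommGroup M₃] [Module A M₃] (f : M₁ →ₗ[A] M₂) (g : M₂ →ₗ[A] M₃)
  (hf : Function.Injective f) (h : Function.Exact f g) (hg : Function.Surjective g)
  {N : Type u} [AddCommGroup N] [Module A N]

include hf h hg

theorem mid_left {n : ℕ} (h1 : V A n M₁ N) (h3 : V A n M₃ N) : V A n M₂ N := by
  obtain ⟨δ, e1, e2, e3⟩ := exists_les f g hf h hg N
  refine ⟨fun x y => ?_⟩
  have key : ∀ z : DRing.Tor A n M₂ N, z = 0 := by
    intro z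
    obtain ⟨w, rfl⟩ := (e1 n z).1 (Subsingleton.elim _ _)
    rw [Subsingleton.elim w 0, map_zero]
  rw [key x, key y]

theorem left_left {n : ℕ} (h3 : V A (n + 1) M₃ N) (h2 : V A n M₂ N) : V A n M₁ N := by
  obtain ⟨δ, e1, e2, e3⟩ := exists_les f g hf h hg N
  refine ⟨fun x y => ?_⟩
  have key : ∀ z : DRing.Tor A n M₁ N, z = 0 := by
    intro z
    obtain ⟨w, rfl⟩ := (e3 n z).1 (Subsingleton.elim _ _)
    rw [Subsingleton.elim w 0, map_zero]
  rw [key x, key y]

theorem right_left {n : ℕ} (h2 : V A (n + 1) M₂ N) (h1 : V A n M₁ N) : V A (n + 1) M₃ N := by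
  obtain ⟨δ, e1, e2, e3⟩ := exists_les f g hf h hg N
  refine ⟨fun x y => ?_⟩
  have key : ∀ z : DRing.Tor A (n + 1) M₃ N, z = 0 := by
    intro z
    obtain ⟨w, rfl⟩ := (e2 n z).1 (Subsingleton.elim _ _)
    rw [Subsingleton.elim w 0, map_zero]
  rw [key x, key y]

theorem mid_right {n : ℕ} (h1 : V A n N M₁) (h3 : V A n N M₃) : V A n N M₂ :=
  V_comm (mid_left f g hf h hg (V_comm h1) (V_comm h3))

theorem left_right {n : ℕ} (h3 : V A (n + 1) N M₃) (h2 : V A n N M₂) : V A n N M₁ :=
  V_comm (left_left f g hf h hg (V_comm h3) (V_comm h2))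

theorem right_right {n : ℕ} (h2 : V A (n + 1) N M₂) (h1 : V A n N M₁) : V A (n + 1) N M₃ :=
  V_comm (right_left f g hf h hg (V_comm h2) (V_comm h1))

/-- `Tor_1(M₃, N) = 0` implies that `M₁ ⊗ N → M₂ ⊗ N` is injective. -/
theorem injective_of_V_one (h3 : V A 1 M₃ N) : Function.Injective (LinearMap.rTensor N f) := by
  obtain ⟨δ, e1, e2, e3⟩ := exists_les f g hf h hg N
  rw [injective_iff_map_eq_zero]
  intro x hx
  have h1 : mapL f 0 N ((zeroEquiv A M₁ N).symm x) = 0 := by
    apply (zeroEquiv A M₂ N).injective
    rw [zeroEquiv_mapL, LinearEquiv.apply_symm_apply, map_zero]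
    exact hx
  obtain ⟨y, hy⟩ := (e3 0 _).1 h1
  rw [Subsingleton.elim y 0, map_zero] at hy
  have := congrArg (zeroEquiv A M₁ N) hy
  rw [LinearEquiv.apply_symm_apply, map_zero] at this
  exact this.symm

theorem V_one_iff [Module.Flat A M₂] :
    V A 1 M₃ N ↔ Function.Injective (LinearMap.rTensor N f) := by
  constructor
  · exact injective_of_V_one f g hf h hg
  · intro hinj
    obtain ⟨e⟩ := shiftL_one f g hf h hg N
    have h1 : Subsingleton (LinearMap.ker (LinearMap.rTensor N f)) := by
      rw [LinearMap.ker_eq_bot.2 hinj]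
      infer_instance
    exact e.toEquiv.subsingleton

theorem V_succ_iff [Module.Flat A M₂] (n : ℕ) : V A (n + 2) M₃ N ↔ V A (n + 1) M₁ N := by
  obtain ⟨e⟩ := shiftL f g hf h hg n N
  exact ⟨fun _ => e.symm.toEquiv.subsingleton, fun _ => e.toEquiv.subsingleton⟩

end les

theorem flat_of_V (M : Type u) [AddCommGroup M] [Module A M]
    (h : ∀ (N : Type u) [AddCommGroup N] [Module A N], V A 1 M N) : Module.Flat A M := by
  rw [Module.Flat.iff_rTensor_preserves_injective_linearMap]
  intro N N' _ _ _ _ f hf
  refine injective_of_V_one f (LinearMap.range f).mkQ hf ?_ (Submodule.mkQ_surjective _)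
    (V_comm (h _))
  exact LinearMap.exact_map_mkQ_range f

/-- Truncated change of rings. -/
theorem V_of_algebra (A' : Type u) [CommRing A'] [Algebra A A'] (k : ℕ) :
    ∀ (M : Type u) [AddCommGroup M] [Module A M], (∀ n, 1 ≤ n → n ≤ k → V A n M A') →
      Module.Flat A' (A' ⊗[A] M) →
      ∀ (N : Type u) [AddCommGroup N] [Module A' N] [Module A N] [IsScalarTower A A' N],
        ∀ n, 1 ≤ n → n ≤ k → V A n M N := by
  induction k with
  | zero =>
    intro M _ _ _ _ N _ _ _ _ n h1 h2
    omega
  | succ k ih =>
    intro M _ _ hM hfl N _ _ _ _ n h1 h2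
    obtain ⟨K, P, _, _, _, _, f, g, hP, hf, h, hg⟩ := exists_free_cover (A := A) M
    -- the base change of the cover
    have hfA : Function.Injective (f.baseChange A') := by
      have h3 := injective_of_V_one f g hf h hg (N := A') (hM 1 le_rfl (by omega))
      have h4 : Function.Injective (LinearMap.lTensor A' f) := by
        rwa [LinearMap.lTensor_inj_iff_rTensor_inj]
      exact h4
    have hexA : Function.Exact (f.baseChange A') (g.baseChange A') := lTensor_exact A' h hg
    have hgA : Function.Surjective (g.baseChange A') := LinearMap.lTensor_surjective A' hg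
    have hPA : Module.Flat A' (A' ⊗[A] P) := inferInstance
    have hKfl : Module.Flat A' (A' ⊗[A] K) := by
      apply flat_of_V
      intro N' _ _
      exact left_left _ _ hfA hexA hgA (V_flat_left 2 (by omega) _ _) (V_flat_left 1 le_rfl _ _)
    rcases Nat.lt_or_ge n 2 with hn | hn
    · obtain rfl : n = 1 := by omega
      rw [V_one_iff f g hf h hg]
      -- over `A'`
      have h5 : Function.Injective (LinearMap.rTensor N (f.baseChange A')) :=
        injective_of_V_one _ _ hfA hexA hgA (V_flat_left 1 le_rfl _ _)
      have h6 : Function.Injective (LinearMap.lTensor N (f.baseChange A')) := by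
        rwa [LinearMap.lTensor_inj_iff_rTensor_inj]
      rw [← LinearMap.lTensor_inj_iff_rTensor_inj]
      have h7 : ∀ x : N ⊗[A'] (A' ⊗[A] K),
          TensorProduct.AlgebraTensorModule.cancelBaseChange A A' A' N P
            (LinearMap.lTensor N (f.baseChange A') x) =
          LinearMap.lTensor N f
            (TensorProduct.AlgebraTensorModule.cancelBaseChange A A' A' N K x) := by
        intro x
        induction x with
        | zero => simp
        | add x y hx hy => simp only [map_add, hx, hy]
        | tmul n y =>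
          induction y with
          | zero => simp
          | add x y hx hy => simp only [tmul_add, map_add, hx, hy]
          | tmul a z => simp
      rw [injective_iff_map_eq_zero]
      intro x hx
      obtain ⟨y, rfl⟩ := (TensorProduct.AlgebraTensorModule.cancelBaseChange A A' A' N K).surjective x
      have h8 : LinearMap.lTensor N (f.baseChange A') y = 0 := by
        apply (TensorProduct.AlgebraTensorModule.cancelBaseChange A A' A' N P).injective
        rw [h7, hx, map_zero]
      have h9 : y = 0 := h6 (by rw [h8, map_zero])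
      rw [h9, map_zero]
    · obtain ⟨n, rfl⟩ := Nat.exists_eq_add_of_le' hn
      rw [V_succ_iff f g hf h hg]
      refine ih K (fun m hm hmk => ?_) hKfl N (n + 1) (by omega) (by omega)
      obtain ⟨m, rfl⟩ := Nat.exists_eq_add_of_le' hm
      rw [← V_succ_iff f g hf h hg]
      exact hM (m + 2) (by omega) (by omega)

/-- `Tor_1` against modules of finite length over a local ring. -/
theorem V_of_isFiniteLength [IsLocalRing A] (n : ℕ) (M : Type u) [AddCommGroup M] [Module A M]
    (h : V A n (IsLocalRing.ResidueField A) M)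
    (N : Type u) [AddCommGroup N] [Module A N] (hN : IsFiniteLength A N) : V A n N M := by
  induction hN with
  | of_subsingleton =>
    rename_i N _ _ _
    -- a subsingleton module is a retract of anything
    refine left_left (A := A) (LinearMap.id : N →ₗ[A] N) (0 : N →ₗ[A] N)
      Function.injective_id ?_ ?_ ?_ ?_
    · intro x; simp [Subsingleton.elim x 0]
    · intro x; exact ⟨0, Subsingleton.elim _ _⟩
    · exact V_flat_left (n + 1) (by omega) N M
    · rcases n with _ | n
      · exact (zeroEquiv A N M).toEquiv.subsingleton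
      · exact V_flat_left (n + 1) (by omega) N M
  | of_simple_quotient hN' ih =>
    rename_i N _ _ N' _
    have h1 : V A n (N ⧸ N') M := by
      obtain ⟨I, hI, ⟨e⟩⟩ := isSimpleModule_iff_quot_maximal.1
        (inferInstance : IsSimpleModule A (N ⧸ N'))
      have h2 : I = IsLocalRing.maximalIdeal A := IsLocalRing.eq_maximalIdeal hI
      subst h2
      exact V_congr_left e.symm h
    exact mid_left N'.subtype N'.mkQ N'.subtype_injective (LinearMap.exact_subtype_mkQ N')
      N'.mkQ_surjective ih h1

end K62.TorVan
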