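import Mathlib.RingTheory.DedekindDomain.Ideal.Basic

/-!
# Domains in which every nonzero ideal is a product of primes are Dedekind
-/

set_option autoImplicit false
universe u

namespace K62.UFI

section

variable {R : Type*} [CommRing R]

/-- `I` divides a nonzero principal ideal. -/
def InvL (I : Ideal R) : Prop := ∃ (J : Ideal R) (a : R), a ≠ 0 ∧ I * J = Ideal.span {a}

theorem InvL.cancel [IsDomain R] {I X Y : Ideal R} (h : InvL I) (hXY : I * X = I * Y) : X = Y := by
  obtain ⟨J, a, ha, hJ⟩ := h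
  have h1 : X * Ideal.span {a} = Y * Ideal.span {a} := by
    rw [← hJ, ← mul_assoc, ← mul_assoc, mul_comm X, mul_comm Y, hXY]
  exact (Ideal.span_singleton_mul_left_inj ha).1 h1

theorem InvL.ne_bot {I : Ideal R} (h : InvL I) : I ≠ ⊥ := by
  rintro rfl
  obtain ⟨J, a, ha, hJ⟩ := h
  rw [Ideal.bot_mul] at hJ
  have := (Ideal.span_singleton_eq_bot.1 hJ.symm)
  exact ha this

theorem InvL.mul [IsDomain R] {I I' : Ideal R} (h : InvL I) (h' : InvL I') : InvL (I * I') := by
  obtain ⟨J, a, ha, hJ⟩ := h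
  obtain ⟨J', a', ha', hJ'⟩ := h'
  refine ⟨J * J', a * a', mul_ne_zero ha ha', ?_⟩
  rw [← Ideal.span_singleton_mul_span_singleton, ← hJ, ← hJ']
  ring

theorem invL_of_mul {I I' : Ideal R} (h : InvL (I * I')) : InvL I := by
  obtain ⟨J, a, ha, hJ⟩ := h
  exact ⟨I' * J, a, ha, by rw [← mul_assoc, hJ]⟩

theorem invL_one [Nontrivial R] : InvL (1 : Ideal R) :=
  ⟨1, 1, one_ne_zero, by simp⟩

theorem invL_prod [IsDomain R] (s : Multiset (Ideal R)) (h : ∀ I ∈ s, InvL I) : InvL s.prod := by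
  induction s using Multiset.induction_on with
  | empty => simpa using invL_one
  | cons p s ih =>
    rw [Multiset.prod_cons]
    exact (h p (Multiset.mem_cons_self p s)).mul (ih (fun I hI => h I (Multiset.mem_cons_of_mem hI)))

theorem exists_minimal_mem (s : Multiset (Ideal R)) (hs : s ≠ 0) :
    ∃ p ∈ s, ∀ q ∈ s, q ≤ p → q = p := by
  classical
  have h1 : (s.toFinset : Set (Ideal R)).Nonempty := by
    obtain ⟨p, hp⟩ := Multiset.exists_mem_of_ne_zero hs
    exact ⟨p, by simpa using hp⟩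
  obtain ⟨p, hp⟩ := (Finset.finite_toSet s.toFinset).exists_minimal h1
  refine ⟨p, by simpa using hp.1, fun q hq hqp => ?_⟩
  exact le_antisymm hqp (hp.2 (by simpa using hq) hqp)

/-- Uniqueness of factorizations of invertible ideals into primes. -/
theorem unique_of_invL [IsDomain R] : ∀ (n : ℕ) (s t : Multiset (Ideal R)), s.card = n →
    (∀ p ∈ s, p.IsPrime) → (∀ p ∈ t, p.IsPrime) → s.prod = t.prod → InvL s.prod → s = t := by
  classical
  intro n
  induction n with
  | zero =>
    intro s t hcard hs ht hst _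
    rw [Multiset.card_eq_zero] at hcard
    subst hcard
    by_contra hne
    obtain ⟨q, hq⟩ := Multiset.exists_mem_of_ne_zero (Ne.symm hne)
    have h1 : t.prod ≤ q := (ht q hq).multiset_prod_le.2 ⟨q, hq, le_rfl⟩
    rw [← hst, Multiset.prod_zero, Ideal.one_eq_top, top_le_iff] at h1
    exact (ht q hq).ne_top h1
  | succ n ih =>
    intro s t hcard hs ht hst hinv
    have hs0 : s ≠ 0 := by
      rintro rfl
      simp at hcard
    obtain ⟨p, hp, hmin⟩ := exists_minimal_mem s hs0
    obtain ⟨q, hq, hqp⟩ := (hs p hp).multiset_prod_le.1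
      (hst ▸ (hs p hp).multiset_prod_le.2 ⟨p, hp, le_rfl⟩ : t.prod ≤ p)
    obtain ⟨p', hp', hp'q⟩ := (ht q hq).multiset_prod_le.1
      (hst.symm ▸ (ht q hq).multiset_prod_le.2 ⟨q, hq, le_rfl⟩ : s.prod ≤ q)
    have h1 : p' = p := hmin p' hp' (hp'q.trans hqp)
    have h2 : q = p := le_antisymm hqp (h1 ▸ hp'q)
    subst h2
    have hs' := Multiset.cons_erase hp
    have ht' := Multiset.cons_erase hq
    have hcs : (s.erase q).card = n := by
      have := congrArg Multiset.card hs'
      rw [Multiset.card_cons, hcard] at this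
      omega
    rw [← hs', Multiset.prod_cons] at hinv hst
    rw [← ht', Multiset.prod_cons] at hst
    have h3 : (s.erase q).prod = (t.erase q).prod := (invL_of_mul hinv).cancel hst
    have h4 := ih (s.erase q) (t.erase q) hcs
      (fun p hp => hs p (Multiset.mem_of_mem_erase hp))
      (fun p hp => ht p (Multiset.mem_of_mem_erase hp)) h3
      (invL_of_mul (by rwa [mul_comm] at hinv))
    rw [← hs', ← ht', h4]

end

section

variable {R : Type*} [CommRing R] [IsDomain R]
  (H : ∀ I : Ideal R, I ≠ ⊥ → ∃ s : Multiset (Ideal R), (∀ p ∈ s, p.IsPrime ∧ p ≠ ⊥) ∧ s.prod = I)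

include H

/-- Invertible primes are maximal. -/
theorem isMaximal_of_invL (p : Ideal R) [hp : p.IsPrime] (hinv : InvL p) : p.IsMaximal := by
  classical
  rw [Ideal.isMaximal_iff]
  refine ⟨fun h => hp.ne_top ((Ideal.eq_top_iff_one p).2 h), fun J a hpJ hap haJ => ?_⟩
  -- the two ideals
  set π := Ideal.Quotient.mk p with hπ
  have hπs : Function.Surjective π := Ideal.Quotient.mk_surjective
  set I₁ := p ⊔ Ideal.span {a} with hI₁
  set I₂ := p ⊔ Ideal.span {a ^ 2} with hI₂
  have hI₁0 : I₁ ≠ ⊥ := fun h => hinv.ne_bot (le_bot_iff.1 (h ▸ le_sup_left))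
  have hI₂0 : I₂ ≠ ⊥ := fun h => hinv.ne_bot (le_bot_iff.1 (h ▸ le_sup_left))
  obtain ⟨s₁, hs₁, hprod₁⟩ := H I₁ hI₁0
  obtain ⟨s₂, hs₂, hprod₂⟩ := H I₂ hI₂0
  have hmap : ∀ b : R, (p ⊔ Ideal.span {b}).map π = Ideal.span {π b} := by
    intro b
    rw [Ideal.map_sup, Ideal.map_span, Set.image_singleton, Ideal.map_quotient_self, bot_sup_eq]
  have hle₁ : ∀ q ∈ s₁, p ≤ q := fun q hq =>
    le_sup_left.trans (hprod₁ ▸ (hs₁ q hq).1.multiset_prod_le.2 ⟨q, hq, le_rfl⟩ : I₁ ≤ q)
  have hle₂ : ∀ q ∈ s₂, p ≤ q := fun q hq =>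
    le_sup_left.trans (hprod₂ ▸ (hs₂ q hq).1.multiset_prod_le.2 ⟨q, hq, le_rfl⟩ : I₂ ≤ q)
  have hker : RingHom.ker π = p := Ideal.mk_ker
  have hprime₁ : ∀ q ∈ s₁, (q.map π).IsPrime := by
    intro q hq
    have := (hs₁ q hq).1
    exact Ideal.map_isPrime_of_surjective hπs (by rw [hker]; exact hle₁ q hq)
  have hprime₂ : ∀ q ∈ s₂, (q.map π).IsPrime := by
    intro q hq
    have := (hs₂ q hq).1
    exact Ideal.map_isPrime_of_surjective hπs (by rw [hker]; exact hle₂ q hq)
  have hcm : ∀ q : Ideal R, p ≤ q → (q.map π).comap π = q := by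
    intro q hq
    rw [Ideal.comap_map_of_surjective π hπs, sup_eq_left]
    change RingHom.ker π ≤ q
    rwa [hker]
  have hπa : π a ≠ 0 := by
    rw [hπ, Ne, Ideal.Quotient.eq_zero_iff_mem]
    exact hap
  have hmapprod : ∀ s : Multiset (Ideal R), (s.map (Ideal.map π)).prod = s.prod.map π := by
    intro s
    exact (map_multiset_prod (Ideal.mapHom π) s).symm
  have h1 : (s₁.map (Ideal.map π) + s₁.map (Ideal.map π)) = s₂.map (Ideal.map π) := by
    refine unique_of_invL _ _ _ rfl ?_ ?_ ?_ ?_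
    · intro q hq
      rw [Multiset.mem_add, or_self, Multiset.mem_map] at hq
      obtain ⟨q, hq, rfl⟩ := hq
      exact hprime₁ q hq
    · intro q hq
      rw [Multiset.mem_map] at hq
      obtain ⟨q, hq, rfl⟩ := hq
      exact hprime₂ q hq
    · rw [Multiset.prod_add, hmapprod, hmapprod, hprod₁, hprod₂, hmap, hmap,
        Ideal.span_singleton_mul_span_singleton, map_pow, pow_two]
    · rw [Multiset.prod_add, hmapprod, hprod₁, hmap, Ideal.span_singleton_mul_span_singleton]
      exact ⟨1, π a * π a, mul_ne_zero hπa hπa, by rw [mul_one]⟩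
  have h2 : s₁ + s₁ = s₂ := by
    have h3 : ∀ s : Multiset (Ideal R), (∀ q ∈ s, p ≤ q) →
        (s.map (Ideal.map π)).map (Ideal.comap π) = s := by
      intro s hs
      rw [Multiset.map_map]
      conv_rhs => rw [← Multiset.map_id s]
      exact Multiset.map_congr rfl (fun q hq => hcm q (hs q hq))
    have h4 := congrArg (Multiset.map (Ideal.comap π)) h1
    rwa [Multiset.map_add, h3 s₁ hle₁, h3 s₂ hle₂] at h4
  have h5 : I₂ = I₁ * I₁ := by
    rw [← hprod₂, ← h2, Multiset.prod_add, hprod₁]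
  have h6 : p * I₁ = p * ⊤ := by
    refine le_antisymm (Ideal.mul_mono le_rfl le_top) ?_
    rw [Ideal.mul_top]
    intro x hx
    have hx2 : x ∈ I₁ * I₁ := h5 ▸ (le_sup_left : p ≤ I₂) hx
    have h7 : I₁ * I₁ ≤ p * p ⊔ Ideal.span {a} := by
      rw [hI₁, Ideal.sup_mul, Ideal.mul_sup]
      refine sup_le (sup_le le_sup_left ?_) ?_
      · exact Ideal.mul_le_right.trans le_sup_right
      · exact Ideal.mul_le_left.trans le_sup_right
    obtain ⟨y, hy, z, hz, hyz⟩ := Submodule.mem_sup.1 (h7 hx2)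
    rw [hI₁, Ideal.mul_sup]
    have hyp : y ∈ p := Ideal.mul_le_left hy
    have hzp : z ∈ p := by
      have : z = x - y := by rw [← hyz]; ring
      rw [this]
      exact p.sub_mem hx hyp
    obtain ⟨c, rfl⟩ := Ideal.mem_span_singleton'.1 hz
    have hcp : c ∈ p := (hp.mem_or_mem hzp).resolve_right hap
    rw [← hyz]
    exact Submodule.add_mem_sup hy (Ideal.mul_mem_mul hcp (Ideal.mem_span_singleton_self a))
  have h8 : I₁ = ⊤ := hinv.cancel h6
  have h9 : I₁ ≤ J := sup_le hpJ ((Ideal.span_singleton_le_iff_mem _).2 haJ)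
  exact h9 (h8 ▸ Submodule.mem_top)

/-- Nonzero primes are invertible. -/
theorem invL_of_prime (p : Ideal R) [hp : p.IsPrime] (hp0 : p ≠ ⊥) : InvL p := by
  classical
  obtain ⟨b, hb, hb0⟩ := Submodule.exists_mem_ne_zero_of_ne_bot hp0
  obtain ⟨s, hs, hprod⟩ := H (Ideal.span {b}) (by rwa [Ne, Ideal.span_singleton_eq_bot])
  obtain ⟨q, hq, hqp⟩ := hp.multiset_prod_le.1
    (hprod ▸ (Ideal.span_singleton_le_iff_mem _).2 hb : s.prod ≤ p)
  have hqi : InvL q := by
    rw [← Multiset.cons_erase hq, Multiset.prod_cons] at hprod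
    exact ⟨_, b, hb0, hprod⟩
  have := (hs q hq).1
  have hm := isMaximal_of_invL H q hqi
  have : q = p := hm.eq_of_le hp.ne_top hqp
  rwa [← this]

theorem invL_all (I : Ideal R) (hI : I ≠ ⊥) : InvL I := by
  obtain ⟨s, hs, rfl⟩ := H I hI
  refine invL_prod s (fun p hp => ?_)
  have := (hs p hp).1
  exact invL_of_prime H p (hs p hp).2

open FractionalIdeal nonZeroDivisors in
theorem isDedekindDomain : IsDedekindDomain R := by
  rw [isDedekindDomain_iff_mul_inv_cancel (K := FractionRing R)]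
  intro I hI
  rw [FractionalIdeal.mul_inv_cancel_iff_isUnit]
  obtain ⟨a, J, ha, hJ⟩ := FractionalIdeal.exists_eq_spanSingleton_mul (K := FractionRing R) I
  subst hJ
  have hJ0 : J ≠ ⊥ := by
    rintro rfl
    apply hI
    simp
  have hunit : ∀ x : FractionRing R, x ≠ 0 → IsUnit (spanSingleton R⁰ x) := by
    intro x hx
    refine IsUnit.of_mul_eq_one (spanSingleton R⁰ x⁻¹) ?_
    rw [spanSingleton_mul_spanSingleton, mul_inv_cancel₀ hx, spanSingleton_one]
  have hinj := IsFractionRing.injective R (FractionRing R)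
  refine IsUnit.mul (hunit _ ?_) ?_
  · exact inv_ne_zero (fun h => ha (hinj (by rw [h, map_zero])))
  · obtain ⟨J', c, hc, hJ'⟩ := invL_all H J hJ0
    have h1 : (J : FractionalIdeal R⁰ (FractionRing R)) * (J' : FractionalIdeal R⁰ (FractionRing R)) =
        spanSingleton R⁰ (algebraMap R (FractionRing R) c) := by
      rw [← coeIdeal_mul, hJ', coeIdeal_span_singleton]
    have h2 := hunit (algebraMap R (FractionRing R) c) (fun h => hc (hinj (by rw [h, map_zero])))
    rw [← h1] at h2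
    exact isUnit_of_mul_isUnit_left h2

end

end K62.UFI
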